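import Groth.Agent.Mero90.DivMod
import Groth.Agent.Var76.Frames
import Groth.Agent.QC70.Sections

/-! Frames of invertible modules, invertible submodules of `K_X`. -/

universe u

open CategoryTheory CategoryTheory.Limits AlgebraicGeometry TopologicalSpace Opposite

namespace Groth.Agent.Mero90

open Var76.LineBundle

variable {X : Scheme.{u}}

theorem isFinLocFreeOfRank_of_isInvertible {L : X.Modules} (hL : PicF.IsInvertible L) :
    FlatMod.IsFinLocFreeOfRank 1 L := fun x => by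
  obtain ⟨U, hx, ⟨φ⟩⟩ := hL x
  exact ⟨U, hx, ⟨φ ≪≫ (coproductUniqueIso fun _ : Fin 1 => Coh.structureModule (↑U : Scheme.{u})).symm⟩⟩

theorem exists_frame' {L : X.Modules} (hL : PicF.IsInvertible L) (x : X) :
    ∃ U : X.Opens, x ∈ U ∧ ∃ e : Γ(L, U), IsFrame L U e :=
  Var76.LineBundle.exists_frame (isFinLocFreeOfRank_of_isInvertible hL) x

theorem isInvertible_of_frames {L : X.Modules}
    (h : ∀ x : X, ∃ U : X.Opens, x ∈ U ∧ ∃ e : Γ(L, U), IsFrame L U e) : PicF.IsInvertible L := fun x => by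
  obtain ⟨U, hx, e, he⟩ := h x
  exact ⟨U, hx, EGA73.nonempty_restrict_iso_unit _ U e he⟩

/-- In an affine nbhd framed. -/
theorem exists_affine_frame {L : X.Modules} (hL : PicF.IsInvertible L) (x : X) (U : X.Opens) (hx : x ∈ U) :
    ∃ W : X.affineOpens, x ∈ W.1 ∧ W.1 ≤ U ∧ ∃ e : Γ(L, W.1), IsFrame L W.1 e := by
  obtain ⟨V, hxV, e, he⟩ := exists_frame' hL x
  obtain ⟨W, hW, hxW, hWle⟩ := exists_isAffineOpen_mem_and_subset
    (show x ∈ (U ⊓ V : X.Opens) from ⟨hx, hxV⟩)
  exact ⟨⟨W, hW⟩, hxW, fun y hy => (hWle hy).1, _, he.res fun y hy => (hWle hy).2⟩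

/-- The germ of a frame spans freely. -/
lemma frame_germ_bijective {L : X.Modules} {U : X.Opens} {e : Γ(L, U)} (he : IsFrame L U e) (y : U) :
    Function.Bijective fun c : X.presheaf.stalk y.1 => c • L.presheaf.germ U y.1 y.2 e := by
  constructor
  · intro c c' hcc
    obtain ⟨W, hW, a, rfl⟩ := TopCat.Presheaf.exists_germ_eq X.presheaf c
    obtain ⟨W', hW', a', rfl⟩ := TopCat.Presheaf.exists_germ_eq X.presheaf c'
    let W₀ := U ⊓ (W ⊓ W')
    have hy₀ : y.1 ∈ W₀ := ⟨y.2, hW, hW'⟩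
    have l₁ : W₀ ≤ W := inf_le_right.trans inf_le_left
    have l₂ : W₀ ≤ W' := inf_le_right.trans inf_le_right
    have l₀ : W₀ ≤ U := inf_le_left
    let e₀ : Γ(L, W₀) := res L l₀ e
    let b : Γ(X, W₀) := X.presheaf.map (homOfLE l₁).op a
    let b' : Γ(X, W₀) := X.presheaf.map (homOfLE l₂).op a'
    have h0 : L.presheaf.germ W₀ y.1 hy₀ (b • e₀) = L.presheaf.germ W₀ y.1 hy₀ (b' • e₀) := by
      rw [Mero.germ_smul, Mero.germ_smul, TopCat.Presheaf.germ_res_apply, TopCat.Presheaf.germ_res_apply,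
        TopCat.Presheaf.germ_res_apply]
      exact hcc
    obtain ⟨W₁, hy₁, i, i', h1⟩ := TopCat.Presheaf.germ_eq L.presheaf y.1 _ _ _ _ h0
    obtain rfl : i = i' := Subsingleton.elim _ _
    have h2 := h1
    change res L i.le (_ • _) = res L i.le (_ • _) at h2
    rw [res_smul, res_smul, res_res] at h2
    have h3 := congrArg (fun t => X.presheaf.germ W₁ y.1 hy₁ t) ((he W₁ (i.le.trans inf_le_left)).1 h2)
    simpa only [b, b', TopCat.Presheaf.germ_res_apply] using h3
  · intro m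
    obtain ⟨W, hW, t, rfl⟩ := TopCat.Presheaf.exists_germ_eq L.presheaf m
    obtain ⟨c, hc⟩ := (he (U ⊓ W) inf_le_left).2 (res L inf_le_right t)
    refine ⟨X.presheaf.germ (U ⊓ W) y.1 ⟨y.2, hW⟩ c, ?_⟩
    have := congrArg (fun q => L.presheaf.germ (U ⊓ W) y.1 ⟨y.2, hW⟩ q) hc
    simp only [Mero.germ_smul] at this
    rwa [TopCat.Presheaf.germ_res_apply, TopCat.Presheaf.germ_res_apply] at this

lemma app_smul_kmod {J : X.Modules} (ι : J ⟶ Mero.kmod X) (V : X.Opens) (r : Γ(X, V)) (m : Γ(J, V)) (y : V) :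
    (ι.app V (r • m)).1 y = algebraMap _ (Mero.KStalk X y.1) (X.presheaf.germ V y.1 y.2 r) * (ι.app V m).1 y := by
  rw [Scheme.Modules.Hom.app_smul]
  exact Algebra.smul_def _ _

lemma app_res {J K : X.Modules} (ι : J ⟶ K) {U V : X.Opens} (h : V ≤ U) (m : Γ(J, U)) :
    ι.app V (res J h m) = res K h (ι.app U m) :=
  ConcreteCategory.congr_hom (ι.mapPresheaf.naturality (homOfLE h).op) m

/-- An invertible submodule of `K_X` is locally generated by a unit, and conversely. -/
theorem isInvertible_iff_locally_unit (J : X.Modules) (ι : J ⟶ Mero.kmod X) [Mono ι] :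
    PicF.IsInvertible J ↔ ∀ x : ↥X, ∃ (U : X.Opens) (_ : x ∈ U) (f : (Γ(Mero.kmod X, U))ˣ),
      ∀ (V : X.Opens) (hV : V ≤ U),
        Set.range ⇑(ι.val.app (Opposite.op V)) =
          {t : Γ(Mero.kmod X, V) | ∃ r : Γ(X, V),
            t = Mero.toK X V r * (Mero.kmod X).presheaf.map (homOfLE hV).op (f : Γ(Mero.kmod X, U))} := by
  have hinj := fun V => QC70.app_injective_of_mono ι V
  constructor
  · intro hJ x
    obtain ⟨U, hx, e, he⟩ := exists_frame' hJ x
    have hu : IsUnit (ι.app U e) := by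
      refine isUnit_of_locally _ fun y c hc => ?_
      obtain ⟨W, hW, a, rfl⟩ := TopCat.Presheaf.exists_germ_eq X.presheaf c
      obtain ⟨W₀, hy₀, hle, p, q, hpq⟩ := exists_frac (ι.app U e) y
      let V := W ⊓ W₀
      have hVU : V ≤ U := inf_le_right.trans hle
      let a₀ : Γ(X, V) := X.presheaf.map (homOfLE inf_le_left).op a
      let p₀ : Γ(X, V) := X.presheaf.map (homOfLE inf_le_right).op p
      have h0 : X.presheaf.germ V y.1 ⟨hW, hy₀⟩ (a₀ * p₀) = X.presheaf.germ V y.1 ⟨hW, hy₀⟩ 0 := by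
        rw [show (ι.app U e).1 y = _ from hpq ⟨y.1, hy₀⟩,
          ← IsLocalization.mk'_one (M := Mero.regStalk X y.1) (Mero.KStalk X y.1) (X.presheaf.germ W y.1 hW a),
          ← IsLocalization.mk'_mul, IsLocalization.mk'_eq_zero_iff] at hc
        obtain ⟨m, hm⟩ := hc
        rw [map_zero, map_mul, TopCat.Presheaf.germ_res_apply, TopCat.Presheaf.germ_res_apply]
        exact (mem_nonZeroDivisors_iff.mp (Mero.regStalk_le_nonZeroDivisors _ m.2)).1 _ hm
      obtain ⟨V', hy', i, i', h1⟩ := TopCat.Presheaf.germ_eq X.presheaf y.1 _ _ _ _ h0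
      rw [map_zero, map_mul] at h1
      have h2 : X.presheaf.map i.op a₀ • res J (i.le.trans hVU) e = 0 := by
        refine hinj V' (((kext fun z => ?_) : ι.app V' _ = 0).trans (map_zero (ι.app V').hom).symm)
        rw [app_smul_kmod, app_res]
        change _ * (ι.app U e).1 ⟨z.1, _⟩ = 0
        rw [show (ι.app U e).1 ⟨z.1, (i.le.trans hVU) z.2⟩ = _ from hpq ⟨z.1, (i.le z.2).2⟩,
          ← IsLocalization.mk'_one (M := Mero.regStalk X z.1) (Mero.KStalk X z.1), ← IsLocalization.mk'_mul]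
        have h3 := congrArg (fun t => X.presheaf.germ V' z.1 z.2 t) h1
        simp only [map_mul, map_zero, TopCat.Presheaf.germ_res_apply, a₀, p₀] at h3 ⊢
        rw [h3, IsLocalization.mk'_zero]
      have h4 : X.presheaf.map i.op a₀ = 0 := (he V' (i.le.trans hVU)).1 (h2.trans (zero_smul _ _).symm)
      have := congrArg (fun t => X.presheaf.germ V' y.1 hy' t) h4
      simpa only [map_zero, TopCat.Presheaf.germ_res_apply, a₀] using this
    refine ⟨U, hx, hu.unit, fun V hV => Set.ext fun t => ⟨?_, ?_⟩⟩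
    · rintro ⟨m, rfl⟩
      obtain ⟨r, rfl⟩ := (he V hV).2 m
      refine ⟨r, kext fun y => ?_⟩
      change (ι.app V (r • res J hV e)).1 y = _ * (ι.app U e).1 ⟨y.1, hV y.2⟩
      rw [app_smul_kmod, app_res, toK_val]
      rfl
    · rintro ⟨r, rfl⟩
      refine ⟨r • res J hV e, kext fun y => ?_⟩
      change (ι.app V (r • res J hV e)).1 y = _ * (ι.app U e).1 ⟨y.1, hV y.2⟩
      rw [app_smul_kmod, app_res, toK_val]
      rfl
  · refine fun h => isInvertible_of_frames fun x => ?_
    obtain ⟨U, hx, f, hf⟩ := h x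
    have hmem : (f : Γ(Mero.kmod X, U)) ∈ Set.range (ι.app U) := by
      change _ ∈ Set.range ⇑(ι.val.app (op U))
      rw [hf U le_rfl]
      exact ⟨1, by rw [map_one, one_mul]; rfl⟩
    obtain ⟨e, he⟩ := hmem
    have key : ∀ (V : X.Opens) (hV : V ≤ U) (r : Γ(X, V)), ι.app V (r • res J hV e) =
        Mero.toK X V r * (Mero.kmod X).presheaf.map (homOfLE hV).op (f : Γ(Mero.kmod X, U)) := by
      intro V hV r
      refine kext fun y => ?_
      rw [app_smul_kmod, app_res, he]
      change _ = (Mero.toK X V r).1 y * _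
      rw [toK_val]
    refine ⟨U, hx, e, fun V hV => ⟨fun r r' hrr => ?_, fun m => ?_⟩⟩
    · have h := congrArg (ι.app V) hrr
      rw [key, key] at h
      refine toK_injective V ?_
      have hfV : IsUnit ((Mero.kmod X).presheaf.map (homOfLE hV).op (f : Γ(Mero.kmod X, U))) :=
        f.isUnit.map ((Mero.kring X).obj.map (homOfLE hV).op).hom
      exact hfV.mul_right_cancel h
    · have : ι.app V m ∈ Set.range ⇑(ι.val.app (op V)) := ⟨m, rfl⟩
      rw [hf V hV] at this
      obtain ⟨r, hr⟩ := this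
      exact ⟨r, hinj V ((key V hV r).trans hr.symm)⟩

end Groth.Agent.Mero90
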