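import Groth.Agent.EGA73.Tensor
import Groth.Agent.Var76.LineBundle
import Groth.Prelude.Def_SecTwist

/-! Morphisms out of a tensor product given by bilinear maps on sections. -/

universe u

open CategoryTheory CategoryTheory.Limits AlgebraicGeometry MonoidalCategory Opposite TopologicalSpace

noncomputable section

namespace Groth.Agent.Mero90

open Var76.LineBundle

variable {X : Scheme.{u}}

/-- A bilinear pairing on sections, compatible with restriction. -/
structure Pairing (L M N : X.Modules) where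
  b : ∀ U : X.Opens, Γ(L, U) → Γ(M, U) → Γ(N, U)
  add_left : ∀ U m m' n, b U (m + m') n = b U m n + b U m' n
  add_right : ∀ U m n n', b U m (n + n') = b U m n + b U m n'
  smul_left : ∀ U (r : Γ(X, U)) m n, b U (r • m) n = r • b U m n
  smul_right : ∀ U (r : Γ(X, U)) m n, b U m (r • n) = r • b U m n
  nat : ∀ (U V : X.Opens) (h : V ≤ U) m n, b V (res L h m) (res M h n) = res N h (b U m n)

variable {L M N : X.Modules} (P : Pairing L M N)

/-- The pairing on presheaves. -/
def Pairing.preLift : CohB1.tensorPre L M ⟶ Mod48.pre (O := X.sheaf) N where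
  app U := ModuleCat.MonoidalCategory.tensorLift
    (fun m n => (P.b U.unop m n :))
    (fun _ _ _ => P.add_left U.unop _ _ _)
    (fun a _ _ => P.smul_left U.unop a _ _)
    (fun _ _ _ => P.add_right U.unop _ _ _)
    (fun a _ _ => P.smul_right U.unop a _ _)
  naturality {U V} i := ModuleCat.MonoidalCategory.tensor_ext fun m n =>
    P.nat U.unop V.unop i.unop.le m n

lemma Pairing.preLift_tp (U : X.Opens) (m : Γ(L, U)) (n : Γ(M, U)) :
    P.preLift.app (op U) (Mod48.tp (O := X.sheaf) (M := CohB1.toPMod L) (N := CohB1.toPMod M) (X := op U) m n) =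
      P.b U m n := rfl

/-- The morphism out of the tensor product. -/
def Pairing.lift : CohB1.tensorMod L M ⟶ N :=
  (Mod48.shf (O := X.sheaf)).map P.preLift ≫ ((Mod48.shfCounitIso (O := X.sheaf)).app N).hom

theorem Pairing.lift_tmul (U : X.Opens) (m : Γ(L, U)) (n : Γ(M, U)) :
    P.lift.app U (SecTwist.tmul L M U m n) = P.b U m n := by
  have h : Mod48.shfU (O := X.sheaf) (CohB1.tensorPre L M) ≫ Mod48.fgt.map P.lift = P.preLift := by
    change Mod48.shfU (O := X.sheaf) _ ≫ Mod48.fgt.map ((Mod48.shf).map P.preLift ≫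
      (Mod48.shfAdj (O := X.sheaf)).counit.app N) = _
    rw [Functor.map_comp, ← Category.assoc, ← Mod48.shfU_naturality, Category.assoc]
    refine (congrArg (P.preLift ≫ ·) ((Mod48.shfAdj (O := X.sheaf)).right_triangle_components N)).trans ?_
    exact Category.comp_id _
  have := congrArg (fun q : CohB1.tensorPre L M ⟶ Mod48.pre (O := X.sheaf) N =>
    q.app (op U) (Mod48.tp (O := X.sheaf) (M := CohB1.toPMod L) (N := CohB1.toPMod M) (X := op U) m n)) h
  exact this.trans (P.preLift_tp U m n)

/-- A function times a section of the presheaf tensor product. -/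
abbrev osmul {V : X.Opens} (a : Γ(X, V)) (z : (CohB1.tensorPre L M).obj (op V)) :
    (CohB1.tensorPre L M).obj (op V) :=
  @HSMul.hSMul (X.sheaf.obj.obj (op V)) _ _ _ a z

/-- A pure tensor. -/
abbrev tq {V : X.Opens} (m : Γ(L, V)) (n : Γ(M, V)) : (CohB1.tensorPre L M).obj (op V) :=
  Mod48.tp (O := X.sheaf) (M := CohB1.toPMod L) (N := CohB1.toPMod M) (X := op V) m n

lemma tq_smul {V : X.Opens} (a c : Γ(X, V)) (m : Γ(L, V)) (n : Γ(M, V)) :
    tq (a • m) (c • n) = osmul (a * c) (tq m n) := by
  refine (Mod48.tp_smul_left (O := X.sheaf) (M := CohB1.toPMod L) (N := CohB1.toPMod M) (X := op V) a m _).trans ?_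
  exact (congrArg _ (Mod48.tp_smul_right (O := X.sheaf) (M := CohB1.toPMod L) (N := CohB1.toPMod M)
    (X := op V) c m n)).trans (smul_smul _ _ _)

/-- On frames every section of the presheaf tensor product is a multiple of `e ⊗ e'`. -/
lemma exists_eq_smul_tp {U : X.Opens} {e : Γ(L, U)} {e' : Γ(M, U)} (he : IsFrame L U e) (he' : IsFrame M U e')
    {V : X.Opens} (h : V ≤ U) (z : (CohB1.tensorPre L M).obj (op V)) :
    ∃ a : Γ(X, V), z = osmul a (tq (res L h e) (res M h e')) := by
  induction z using TensorProduct.induction_on with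
  | zero => exact ⟨0, (zero_smul (X.sheaf.obj.obj (op V)) (tq (res L h e) (res M h e'))).symm⟩
  | tmul m n =>
    obtain ⟨a, rfl⟩ := (he V h).2 m
    obtain ⟨c, rfl⟩ := (he' V h).2 n
    exact ⟨a * c, tq_smul a c _ _⟩
  | add z z' hz hz' =>
    obtain ⟨a, ha⟩ := hz
    obtain ⟨c, hc⟩ := hz'
    exact ⟨a + c, (congrArg₂ (· + ·) ha hc).trans (add_smul (R := X.sheaf.obj.obj (op V)) a c _).symm⟩

/-- A pairing sending frames to frames gives an isomorphism. -/
theorem Pairing.isIso_lift (h : ∀ x : X, ∃ (U : X.Opens) (e : Γ(L, U)) (e' : Γ(M, U)), x ∈ U ∧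
    IsFrame L U e ∧ IsFrame M U e' ∧ IsFrame N U (P.b U e e')) : IsIso P.lift := by
  choose U e e' hx he he' hb using h
  have key : ∀ (x : X) (V : X.Opens) (hV : V ≤ U x) (a : Γ(X, V)),
      P.preLift.app (op V) (osmul a (tq (res L hV (e x)) (res M hV (e' x)))) =
        a • res N hV (P.b (U x) (e x) (e' x)) := fun x V hV a =>
    ((P.preLift.app (op V)).hom.map_smul _ _).trans
      (congrArg (fun q : Γ(N, V) => a • q) ((P.preLift_tp V _ _).trans (P.nat _ V hV _ _)))
  have : IsIso ((Mod48.shf (O := X.sheaf)).map P.preLift) := by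
    rw [Mod48.isIso_shf_map_iff_isLocalIso]
    refine ⟨⟨fun {W} z z' hzz => ?_⟩, ⟨fun {W} s => ?_⟩⟩
    · rintro x hxW
      let V := W.unop ⊓ U x
      have hVW : V ≤ W.unop := inf_le_left
      have hVU : V ≤ U x := inf_le_right
      refine ⟨V, homOfLE hVW, ?_, ⟨hxW, hx x⟩⟩
      change (CohB1.tensorPre L M).map (homOfLE hVW).op z = (CohB1.tensorPre L M).map (homOfLE hVW).op z'
      obtain ⟨a, ha⟩ := exists_eq_smul_tp (he x) (he' x) hVU ((CohB1.tensorPre L M).map (homOfLE hVW).op z)
      obtain ⟨c, hc⟩ := exists_eq_smul_tp (he x) (he' x) hVU ((CohB1.tensorPre L M).map (homOfLE hVW).op z')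
      have h1 : P.preLift.app (op V) ((CohB1.tensorPre L M).map (homOfLE hVW).op z) =
          P.preLift.app (op V) ((CohB1.tensorPre L M).map (homOfLE hVW).op z') := by
        rw [PresheafOfModules.naturality_apply, PresheafOfModules.naturality_apply]
        exact congrArg _ hzz
      rw [ha, hc, key x V hVU, key x V hVU] at h1
      rw [ha, hc, (hb x V hVU).1 h1]
    · rintro x hxW
      let V := W ⊓ U x
      have hVW : V ≤ W := inf_le_left
      have hVU : V ≤ U x := inf_le_right
      refine ⟨V, homOfLE hVW, ?_, ⟨hxW, hx x⟩⟩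
      obtain ⟨a, ha⟩ := (hb x V hVU).2 (res N hVW s)
      exact ⟨osmul a (tq (res L hVU (e x)) (res M hVU (e' x))), (key x V hVU a).trans ha⟩
  unfold Pairing.lift
  exact IsIso.comp_isIso' this inferInstance

end Groth.Agent.Mero90

end
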