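import Groth.Agent.Mero90.OfMero
import Groth.Agent.Div89.WeakAss

/-! Trivialising invertible modules on schematically dense opens. -/

universe u

open CategoryTheory AlgebraicGeometry TopologicalSpace Opposite IsLocalRing

namespace Groth.Agent.Mero90

open Var76.LineBundle

variable {X : Scheme.{u}}

theorem isQCoh_of_isInvertible {L : X.Modules} (hL : PicF.IsInvertible L) : Coh.IsQCoh L := by
  choose U hU φ using hL
  refine QC70.isQuasicoherent_of_isOpenCover L U ?_ fun x =>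
    QC70.isQuasicoherent_of_iso (φ x).some.symm (Div89.isQCoh_structureModule _)
  exact eq_top_iff.mpr fun x _ => Opens.mem_iSup.2 ⟨x, hU x⟩

/-- A section generating near every maximal point gives a regular meromorphic section. -/
theorem hasRegularMero_of_gen (hX : GoodAffines X) {L : X.Modules} (hL : PicF.IsInvertible L)
    {V : X.Opens} (hd : SchDense ⊤ V) (m : Γ(L, V))
    (hm : ∀ y : V, IsGen (L.presheaf.germ V y.1 y.2 m)) : Mero.HasRegularMero L := by
  choose U hxU e he using fun x => exists_frame' hL x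
  have hg : ∀ x, ∃ g : Γ(X, U x ⊓ V), g • res L inf_le_left (e x) = res L inf_le_right m :=
    fun x => (he x _ inf_le_left).2 _
  choose g hgm using hg
  have hdx : ∀ x, SchDense (U x) (U x ⊓ V) := by
    intro x W hW a b hab
    refine hd W le_top ?_
    refine TopCat.Presheaf.section_ext X.sheaf _ _ _ fun y hy => ?_
    have := congrArg (X.presheaf.germ (W ⊓ (U x ⊓ V)) y ⟨hy.1, hW hy.1, hy.2⟩) hab
    rw [TopCat.Presheaf.germ_res_apply, TopCat.Presheaf.germ_res_apply] at this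
    change X.presheaf.germ _ y hy _ = X.presheaf.germ _ y hy _
    rw [TopCat.Presheaf.germ_res_apply, TopCat.Presheaf.germ_res_apply]
    exact this
  choose k hk using fun x => exists_extension hX (hdx x) (g x)
  have hval : ∀ (x : X) (y : U x) (hy : y.1 ∈ V),
      (k x).1 y • mone (L.presheaf.germ (U x) y.1 y.2 (e x)) = mone (L.presheaf.germ V y.1 hy m) := by
    intro x y hy
    rw [hk x y ⟨y.2, hy⟩, ← mone_smul]
    have := congrArg (L.presheaf.germ (U x ⊓ V) y.1 ⟨y.2, hy⟩) (hgm x)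
    rw [Mero.germ_smul, TopCat.Presheaf.germ_res_apply, TopCat.Presheaf.germ_res_apply] at this
    rw [this]
  have agree : ∀ (x x' y : X) (hy : y ∈ U x) (hy' : y ∈ U x'),
      (k x).1 ⟨y, hy⟩ • mone (L.presheaf.germ (U x) y hy (e x)) =
        (k x').1 ⟨y, hy'⟩ • mone (L.presheaf.germ (U x') y hy' (e x')) := by
    intro x x' y hy hy'
    let O := U x ⊓ U x'
    obtain ⟨c, hc⟩ := (he x' O inf_le_right).2 (res L inf_le_left (e x))
    have hgc : ∀ z : O, L.presheaf.germ (U x) z.1 z.2.1 (e x) =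
        X.presheaf.germ O z.1 z.2 c • L.presheaf.germ (U x') z.1 z.2.2 (e x') := fun z => by
      have := congrArg (L.presheaf.germ O z.1 z.2) hc
      rw [Mero.germ_smul, TopCat.Presheaf.germ_res_apply, TopCat.Presheaf.germ_res_apply] at this
      exact this.symm
    let kx : Γ(Mero.kmod X, O) := (Mero.kmod X).presheaf.map (homOfLE inf_le_left).op (k x)
    let kx' : Γ(Mero.kmod X, O) := (Mero.kmod X).presheaf.map (homOfLE inf_le_right).op (k x')
    have h0 : kx * Mero.toK X O c - kx' = 0 := hd.kzero le_top _ fun z hz => by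
      change Mero.evalK X O z (_ - _) = 0
      rw [map_sub]
      change kx.1 z * (Mero.toK X O c).1 z - kx'.1 z = 0
      rw [sub_eq_zero, toK_val]
      refine (isGen_germ (he x') ⟨z.1, z.2.2⟩).inj ?_
      rw [mul_smul, ← mone_smul, ← hgc z]
      exact (hval x ⟨z.1, z.2.1⟩ hz).trans (hval x' ⟨z.1, z.2.2⟩ hz).symm
    have h1 := congrArg (Mero.evalK X O ⟨y, hy, hy'⟩) h0
    rw [map_sub, map_zero, sub_eq_zero] at h1
    change (k x).1 ⟨y, hy⟩ * (Mero.toK X O c).1 ⟨y, hy, hy'⟩ = (k x').1 ⟨y, hy'⟩ at h1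
    rw [hgc ⟨y, hy, hy'⟩, mone_smul, smul_smul, ← h1, toK_val]
  let s : Γ(Mero.merMod L, ⊤) :=
    ⟨fun y => (k y.1).1 ⟨y.1, hxU y.1⟩ • mone (L.presheaf.germ (U y.1) y.1 (hxU y.1) (e y.1)), fun y => by
      obtain ⟨N, hy, i, a, b, w⟩ := (k y.1).2 ⟨y.1, hxU y.1⟩
      refine ⟨N, hy, homOfLE le_top, a • res L i.le (e y.1), b, fun z => ?_⟩
      refine (agree z.1 y.1 z.1 (hxU z.1) (i.le z.2)).trans ?_
      rw [show (k y.1).1 ⟨z.1, i.le z.2⟩ = _ from w z, mk_eq_mk', mk'_smul_mone]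
      refine Mero.mk_congr ?_ rfl
      rw [Mero.germ_smul, TopCat.Presheaf.germ_res_apply]⟩
  refine ⟨s, fun x q hq => ?_⟩
  have hu : IsUnit (k x) := by
    refine isUnit_of_locally _ fun y c hc => ?_
    obtain ⟨W, hW, c', rfl⟩ := TopCat.Presheaf.exists_germ_eq X.presheaf c
    obtain ⟨N, hyN, hle, a, b, hab⟩ := exists_frac (k x) y
    rw [show (k x).1 y = _ from hab ⟨y.1, hyN⟩,
      ← IsLocalization.mk'_one (M := Mero.regStalk X y.1) (Mero.KStalk X y.1) (X.presheaf.germ W y.1 hW c'),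
      ← IsLocalization.mk'_mul] at hc
    replace hc := mk'_eq_zero hc
    let O := W ⊓ N
    have h0 : X.presheaf.germ O y.1 ⟨hW, hyN⟩ (X.presheaf.map (homOfLE inf_le_left).op c' *
        X.presheaf.map (homOfLE inf_le_right).op a) = X.presheaf.germ O y.1 ⟨hW, hyN⟩ 0 := by
      rw [map_mul, map_zero, TopCat.Presheaf.germ_res_apply, TopCat.Presheaf.germ_res_apply]
      exact hc
    obtain ⟨O', hy', i, i', h1⟩ := TopCat.Presheaf.germ_eq X.presheaf y.1 _ _ _ _ h0
    have h2 : X.presheaf.map i.op (X.presheaf.map (homOfLE inf_le_left).op c') = 0 := by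
      refine hd.eq_zero le_top _ fun z hz hzV => ?_
      have h3 := congrArg (X.presheaf.germ O' z hz) h1
      simp only [map_mul, map_zero, TopCat.Presheaf.germ_res_apply] at h3
      rw [TopCat.Presheaf.germ_res_apply, TopCat.Presheaf.germ_res_apply]
      have hzU : z ∈ U x := hle (i.le hz).2
      have h4 : algebraMap _ (Mero.KStalk X z) (X.presheaf.germ W z (i.le hz).1 c') * (k x).1 ⟨z, hzU⟩ = 0 := by
        rw [show (k x).1 ⟨z, hzU⟩ = _ from hab ⟨z, (i.le hz).2⟩,
          ← IsLocalization.mk'_one (M := Mero.regStalk X z) (Mero.KStalk X z) (X.presheaf.germ W z _ c'),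
          ← IsLocalization.mk'_mul, h3, IsLocalization.mk'_zero]
      have h5 : mone (X.presheaf.germ W z (i.le hz).1 c' • L.presheaf.germ V z hzV m) = 0 := by
        rw [mone_smul, ← hval x ⟨z, hzU⟩ hzV, smul_smul, h4, zero_smul]
      rw [mone_smul] at h5
      exact Mero.algebraMap_KStalk_injective z (((hm ⟨z, hzV⟩).eq_zero h5).trans (map_zero _).symm)
    have h6 := congrArg (X.presheaf.germ O' y.1 hy') h2
    rwa [map_zero, TopCat.Presheaf.germ_res_apply, TopCat.Presheaf.germ_res_apply] at h6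
  change q • ((k x).1 ⟨x, hxU x⟩ • mone _) = 0 at hq
  rw [smul_smul] at hq
  exact (hu.map (Mero.evalK X (U x) ⟨x, hxU x⟩)).mul_left_eq_zero.mp ((isGen_germ (he x) ⟨x, hxU x⟩).eq_zero hq)

/-- In an affine open of an invertible module, finitely many points have a common generator. -/
theorem exists_gen_finite {L : X.Modules} (hL : PicF.IsInvertible L) {W : X.Opens} (hW : IsAffineOpen W)
    (P : Finset W) : ∃ m : Γ(L, W), ∀ x ∈ P, IsGen (L.presheaf.germ W x.1 x.2 m) := by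
  classical
  have : L.IsQuasicoherent := isQCoh_of_isInvertible hL
  have hloc := QC70.isLocAt_of_isQuasicoherent L hW
  have h1 : ∀ x : W, ∃ t : Γ(L, W), IsGen (L.presheaf.germ W x.1 x.2 t) := by
    intro x
    obtain ⟨U, hxU, e, he⟩ := exists_frame' hL x.1
    obtain ⟨g, hgU, hxg⟩ := hW.exists_basicOpen_le ⟨x.1, hxU⟩ x.2
    obtain ⟨n, t, ht⟩ := hloc.exists_of g (res L hgU e)
    refine ⟨t, ?_⟩
    have h := congrArg (L.presheaf.germ (X.basicOpen g) x.1 hxg) ht
    change L.presheaf.germ _ x.1 hxg (L.presheaf.map (homOfLE (X.basicOpen_le g)).op t) =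
      L.presheaf.germ _ x.1 hxg ((X.presheaf.map (homOfLE (X.basicOpen_le g)).op g) ^ n • res L hgU e) at h
    rw [Mero.germ_smul, map_pow, TopCat.Presheaf.germ_res_apply, TopCat.Presheaf.germ_res_apply,
      TopCat.Presheaf.germ_res_apply] at h
    rw [h]
    have hu : IsUnit (X.presheaf.germ W x.1 x.2 g ^ n) := ((X.mem_basicOpen g x.1 x.2).mp hxg).pow n
    exact ⟨fun a b hab => hu.mul_right_cancel ((isGen_germ he ⟨x.1, hxU⟩).1 (by
        simpa only [mul_smul] using hab)), fun v => by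
      obtain ⟨a, ha⟩ := (isGen_germ he ⟨x.1, hxU⟩).2 v
      exact ⟨a * ↑hu.unit⁻¹, by
        dsimp only at ha ⊢
        rw [smul_smul, mul_assoc, hu.val_inv_mul, mul_one, ha]⟩⟩
  choose t ht using h1
  let P' : Finset W := P.filter fun x => ∀ x' ∈ P, x.1 ⤳ x'.1 → x' = x
  have hs : ∀ x ∈ P', ∃ s : Γ(X, W), (IsUnit (X.presheaf.germ W x.1 x.2 s)) ∧
      ∀ x' ∈ P', x' ≠ x → ¬ IsUnit (X.presheaf.germ W x'.1 x'.2 s) := by
    intro x hx
    have hsep : ∀ x' ∈ P'.erase x, ∃ s : Γ(X, W), IsUnit (X.presheaf.germ W x.1 x.2 s) ∧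
        ¬ IsUnit (X.presheaf.germ W x'.1 x'.2 s) := by
      intro x' hx'
      rw [Finset.mem_erase] at hx'
      by_contra hcon
      push Not at hcon
      have hsp : x'.1 ⤳ x.1 := by
        rw [specializes_iff_forall_open]
        intro O hO hxO
        obtain ⟨s, hsO, hxs⟩ := hW.exists_basicOpen_le (V := ⟨O, hO⟩) ⟨x.1, hxO⟩ x.2
        exact hsO ((X.mem_basicOpen s x'.1 x'.2).mpr (hcon s ((X.mem_basicOpen s x.1 x.2).mp hxs)))
      exact hx'.1 ((Finset.mem_filter.mp hx'.2).2 x (Finset.mem_filter.mp hx).1 hsp).symm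
    choose! s hs₁ hs₂ using hsep
    refine ⟨∏ x' ∈ P'.erase x, s x', ?_, fun x' hx' hne hu => ?_⟩
    · rw [map_prod, IsUnit.prod_iff]; exact hs₁
    · rw [map_prod, IsUnit.prod_iff] at hu
      exact hs₂ x' (Finset.mem_erase.mpr ⟨hne, hx'⟩) (hu x' (Finset.mem_erase.mpr ⟨hne, hx'⟩))
  choose! s hs₁ hs₂ using hs
  refine ⟨∑ x ∈ P', s x • t x, fun x hx => ?_⟩
  have hmax : ∀ x ∈ P', IsGen (L.presheaf.germ W x.1 x.2 (∑ x' ∈ P', s x' • t x')) := by
    intro x hx
    choose a ha using fun x' => (ht x).2 (L.presheaf.germ W x.1 x.2 (t x'))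
    have hsum : L.presheaf.germ W x.1 x.2 (∑ x' ∈ P', s x' • t x') =
        (∑ x' ∈ P', X.presheaf.germ W x.1 x.2 (s x') * a x') • L.presheaf.germ W x.1 x.2 (t x) := by
      rw [map_sum, Finset.sum_smul]
      refine Finset.sum_congr rfl fun x' _ => ?_
      rw [Mero.germ_smul, ← ha x', smul_smul]
    have hax : a x = 1 := (ht x).1 ((ha x).trans (one_smul _ _).symm)
    have hu : IsUnit (∑ x' ∈ P', X.presheaf.germ W x.1 x.2 (s x') * a x') := by
      rw [← Finset.add_sum_erase _ _ hx, hax, mul_one]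
      set r := ∑ x' ∈ P'.erase x, X.presheaf.germ W x.1 x.2 (s x') * a x'
      have hr : r ∈ maximalIdeal (X.presheaf.stalk x.1) := Ideal.sum_mem _ fun x' hx' =>
        Ideal.mul_mem_right _ _ (hs₂ x' (Finset.mem_erase.mp hx').2 x hx (Finset.mem_erase.mp hx').1.symm)
      by_contra hnu
      have : X.presheaf.germ W x.1 x.2 (s x) ∈ maximalIdeal (X.presheaf.stalk x.1) := by
        have := (maximalIdeal (X.presheaf.stalk x.1)).sub_mem (show _ ∈ maximalIdeal _ from hnu) hr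
        rwa [add_sub_cancel_right] at this
      exact this (hs₁ x hx)
    rw [hsum]
    exact ⟨fun p q hpq => hu.mul_right_cancel ((ht x).1 (by simpa only [mul_smul] using hpq)), fun v => by
      obtain ⟨p, hp⟩ := (ht x).2 v
      exact ⟨p * ↑hu.unit⁻¹, by
        dsimp only at hp ⊢
        rw [smul_smul, mul_assoc, hu.val_inv_mul, mul_one, hp]⟩⟩
  obtain ⟨x', hx', hxx'⟩ : ∃ x' ∈ P', x.1 ⤳ x'.1 := by
    let S := (P.filter fun x' => x.1 ⤳ x'.1)
    obtain ⟨z, hz, hzmin⟩ := S.exists_minimalFor (fun x' : W => closure ({x'.1} : Set X))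
      ⟨x, Finset.mem_filter.mpr ⟨hx, specializes_refl _⟩⟩
    obtain ⟨hzP, hxz⟩ := Finset.mem_filter.mp hz
    refine ⟨z, Finset.mem_filter.mpr ⟨hzP, fun w hw hzw => ?_⟩, hxz⟩
    have hle : closure ({w.1} : Set X) ⊆ closure {z.1} := specializes_iff_closure_subset.mp hzw
    have := hzmin (Finset.mem_filter.mpr ⟨hw, hxz.trans hzw⟩) hle
    exact Subtype.ext ((specializes_iff_closure_subset.mpr this).antisymm hzw).eq
  obtain ⟨U, hxU, e, he⟩ := exists_frame' hL x'.1
  obtain ⟨c, hc⟩ := (he (U ⊓ W) inf_le_left).2 (res L inf_le_right (∑ x ∈ P', s x • t x))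
  have hgerm : ∀ (y : X) (hy : y ∈ U ⊓ W), L.presheaf.germ W y hy.2 (∑ x ∈ P', s x • t x) =
      X.presheaf.germ (U ⊓ W) y hy c • L.presheaf.germ U y hy.1 e := fun y hy => by
    have := congrArg (L.presheaf.germ (U ⊓ W) y hy) hc
    rw [Mero.germ_smul, TopCat.Presheaf.germ_res_apply, TopCat.Presheaf.germ_res_apply] at this
    exact this.symm
  have hcu : IsUnit (X.presheaf.germ (U ⊓ W) x'.1 ⟨hxU, x'.2⟩ c) := by
    obtain ⟨p, hp⟩ := (hmax x' hx').2 (L.presheaf.germ U x'.1 hxU e)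
    dsimp only at hp
    rw [hgerm x'.1 ⟨hxU, x'.2⟩, smul_smul] at hp
    exact IsUnit.of_mul_eq_one p (((isGen_germ he ⟨x'.1, hxU⟩).1 (by
      dsimp only; rw [one_smul, mul_comm]; exact hp)))
  have hxO : x.1 ∈ U ⊓ W := ⟨hxx'.mem_open U.2 hxU, x.2⟩
  have hcx : IsUnit (X.presheaf.germ (U ⊓ W) x.1 hxO c) :=
    (X.mem_basicOpen c x.1 hxO).mp (hxx'.mem_open (X.basicOpen c).2 ((X.mem_basicOpen c x'.1 ⟨hxU, x'.2⟩).mpr hcu))
  rw [hgerm x.1 hxO]
  exact ⟨fun p q hpq => hcx.mul_right_cancel ((isGen_germ he ⟨x.1, hxO.1⟩).1 (by simpa only [mul_smul] using hpq)),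
    fun v => by
      obtain ⟨p, hp⟩ := (isGen_germ he ⟨x.1, hxO.1⟩).2 v
      exact ⟨p * ↑hcx.unit⁻¹, by
        dsimp only at hp ⊢
        rw [smul_smul, mul_assoc, hcx.val_inv_mul, mul_one, hp]⟩⟩

end Groth.Agent.Mero90
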