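import Groth.Agent.Mero90.OfMero
import Groth.Agent.Var76.ZeroScheme
import Groth.Prelude.Def_SecTwist
import Mathlib.AlgebraicGeometry.FunctionField

/-! Divisors of sections and zero schemes. -/

universe u

open CategoryTheory AlgebraicGeometry TopologicalSpace Opposite

namespace Groth.Agent.Mero90

open Var76.LineBundle Var76.ZeroScheme

variable {X : Scheme.{u}}

/-- The meromorphic section attached to a trivialisation `L ≅ O(D)`. -/
theorem exists_mero_of_iso {L : X.Modules} (D : Mero.Divisor X) (φ : L ≅ Mero.divMod D) :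
    ∃ s : Γ(Mero.merMod L, ⊤), Mero.IsRegularMero L s ∧ Mero.IsDivOfMero L s D := by
  choose U hxU f hf using fun x => D.2 x
  let e : ∀ x, Γ(L, U x) := fun x => φ.inv.app (U x) (frameSec D (f x) (hf x))
  have he : ∀ x, IsFrame L (U x) (e x) := by
    intro x V hV
    have hb := isFrame_frameSec D (f x) (hf x) V hV
    have : (fun a : Γ(X, V) => a • res L hV (e x)) =
        φ.inv.app V ∘ fun a => a • res (Mero.divMod D) hV (frameSec D (f x) (hf x)) := by
      funext a
      simp only [Function.comp_apply, e]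
      rw [← app_res, Scheme.Modules.Hom.app_smul]
    rw [this]
    exact (ConcreteCategory.bijective_of_isIso (φ.inv.app V)).comp hb
  have agree : ∀ (x x' : X) (y : X) (hy : y ∈ U x) (hy' : y ∈ U x'),
      (f x).1.1 ⟨y, hy⟩ • mone (L.presheaf.germ (U x) y hy (e x)) =
        (f x').1.1 ⟨y, hy'⟩ • mone (L.presheaf.germ (U x') y hy' (e x')) := by
    intro x x' y hy hy'
    let W := U x ⊓ U x'
    obtain ⟨c, hc⟩ := (isFrame_frameSec D (f x') (hf x') W inf_le_right).2
      (res (Mero.divMod D) inf_le_left (frameSec D (f x) (hf x)))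
    have h1 := congrArg (fun t : Γ(Mero.divMod D, W) => t.1 ⟨y, hy, hy'⟩) hc
    change X.presheaf.germ W y ⟨hy, hy'⟩ c • ((f x')⁻¹).1.1 ⟨y, hy'⟩ = ((f x)⁻¹).1.1 ⟨y, hy⟩ at h1
    have h2 : (f x).1.1 ⟨y, hy⟩ * algebraMap _ _ (X.presheaf.germ W y ⟨hy, hy'⟩ c) = (f x').1.1 ⟨y, hy'⟩ := by
      rw [Algebra.smul_def] at h1
      have := congrArg (fun q => (f x).1.1 ⟨y, hy⟩ * q * (f x').1.1 ⟨y, hy'⟩) h1
      dsimp only at this
      rwa [mul_assoc, mul_assoc, ← Mero.kmod_mul_apply _ ((f x')⁻¹).1, Units.inv_mul, Mero.kmod_one_apply, mul_one,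
        ← Mero.kmod_mul_apply _ (f x).1 ((f x)⁻¹).1, Units.mul_inv, Mero.kmod_one_apply, one_mul] at this
    have h3 := congrArg (φ.inv.app W) hc
    dsimp only at h3
    rw [Scheme.Modules.Hom.app_smul, app_res, app_res] at h3
    have h4 := congrArg (L.presheaf.germ W y ⟨hy, hy'⟩) h3
    rw [Mero.germ_smul, TopCat.Presheaf.germ_res_apply, TopCat.Presheaf.germ_res_apply] at h4
    rw [← h4, mone_smul, smul_smul, h2]
  let s : Γ(Mero.merMod L, ⊤) :=
    ⟨fun y => (f y.1).1.1 ⟨y.1, hxU y.1⟩ • mone (L.presheaf.germ (U y.1) y.1 (hxU y.1) (e y.1)), fun y => by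
      obtain ⟨N, hy, i, a, b, w⟩ := (f y.1).1.2 ⟨y.1, hxU y.1⟩
      refine ⟨N, hy, homOfLE le_top, a • res L i.le (e y.1), b, fun z => ?_⟩
      refine (agree z.1 y.1 z.1 (hxU z.1) (i.le z.2)).trans ?_
      rw [show (f y.1).1.1 ⟨z.1, i.le z.2⟩ = _ from w z, mk_eq_mk', mk'_smul_mone]
      refine Mero.mk_congr ?_ rfl
      rw [Mero.germ_smul, TopCat.Presheaf.germ_res_apply]⟩
  have hu : ∀ x : X, (Units.map (Mero.evalK X (U x) ⟨x, hxU x⟩).toMonoidHom (f x) : Mero.KStalk X x) =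
      (f x).1.1 ⟨x, hxU x⟩ := fun x => rfl
  refine ⟨s, isRegularMero_of_coords s fun x => ⟨_, Units.map (Mero.evalK X (U x) ⟨x, hxU x⟩).toMonoidHom (f x),
    isGen_germ (he x) ⟨x, hxU x⟩, rfl⟩, fun x ε g hε hg => ?_⟩
  rw [hf x ⟨x, hxU x⟩]
  exact mk_eq_mk_of_gen (he x) ⟨x, hxU x⟩ hε (g := Units.map (Mero.evalK X (U x) ⟨x, hxU x⟩).toMonoidHom (f x))
    rfl hg

lemma val_res (L : X.Modules) (s : Coh.structureModule X ⟶ L) {U : X.Opens} :
    res L le_top (PicF2.secVal L s ⊤) = PicF2.secVal L s U := res_val L s le_top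

lemma app_eq_smul_secVal (L : X.Modules) (s : Coh.structureModule X ⟶ L) (W : X.Opens) (a : Γ(X, W)) :
    s.app W (a : Γ(Coh.structureModule X, W)) = a • PicF2.secVal L s W := by
  let one : Γ(Coh.structureModule X, W) := (1 : Γ(X, W))
  show _ = a • s.app W one
  rw [← Scheme.Modules.Hom.app_smul]
  exact congrArg (s.app W) (mul_one a).symm

/-- A nonzero section of an invertible module on an integral scheme has nonzero germs in all frames. -/
theorem coord_germ_ne_zero [IsIntegral X] {L : X.Modules} (hL : PicF.IsInvertible L)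
    (s : Coh.structureModule X ⟶ L) (hs : s ≠ 0) {U : X.Opens} {e : Γ(L, U)} (he : IsFrame L U e)
    (c : Γ(X, U)) (hc : c • e = PicF2.secVal L s U) (y : U) : X.presheaf.germ U y.1 y.2 c ≠ 0 := by
  intro h0
  apply hs
  have hgerm : ∀ (U : X.Opens) (z : U) (a : Γ(X, U)), X.presheaf.germ U z.1 z.2 a = 0 → a = 0 :=
    fun U z a ha => germ_injective_of_isIntegral X z.1 z.2 (ha.trans (map_zero _).symm)
  have hc0 : c = 0 := hgerm U y c h0
  have hval : ∀ V : X.Opens, PicF2.secVal L s V = (0 : Γ(L, V)) := by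
    intro V
    refine eq_of_locally L _ _ fun x hx => ?_
    obtain ⟨W, hxW, e', he'⟩ := exists_frame' hL x
    obtain ⟨d, hd⟩ := (he' (W ⊓ V) inf_le_left).2 (PicF2.secVal L s (W ⊓ V))
    refine ⟨W ⊓ V, inf_le_right, ⟨hxW, hx⟩, ?_⟩
    rw [show res L inf_le_right (PicF2.secVal L s V) = PicF2.secVal L s (W ⊓ V) from res_val L s _, ← hd]
    let O := (W ⊓ V) ⊓ U
    have hne : Nonempty O := by
      obtain ⟨z, hz⟩ := nonempty_preirreducible_inter (W ⊓ V).2 U.2 ⟨x, hxW, hx⟩ ⟨y.1, y.2⟩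
      exact ⟨⟨z, hz⟩⟩
    obtain ⟨z⟩ := hne
    have hd0 : d = 0 := by
      refine hgerm _ ⟨z.1, z.2.1⟩ d ?_
      have h1 := congrArg (res L (inf_le_left : O ≤ W ⊓ V)) hd
      dsimp only at h1
      rw [res_smul, res_res, res_val] at h1
      have h2 : val L s O = 0 := by
        rw [← res_val L s (inf_le_right : O ≤ U), show val L s U = c • e from hc.symm, res_smul, hc0, map_zero,
          zero_smul]
      have := (he' O (inf_le_left.trans inf_le_left)).1 ((h1.trans h2).trans (zero_smul _ _).symm)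
      have h3 := congrArg (X.presheaf.germ O z.1 z.2) this
      rwa [map_zero, TopCat.Presheaf.germ_res_apply] at h3
    show d • _ = res L _ (0 : Γ(L, V))
    rw [hd0, zero_smul]
    exact (map_zero (L.presheaf.map (homOfLE (inf_le_right : W ⊓ V ≤ V)).op).hom).symm
  ext V a
  show s.app V a = 0
  rw [app_eq_smul_secVal L s V a, hval]
  exact smul_zero (M := Γ(X, V)) (A := Γ(L, V)) a

theorem exists_div_of_section [IsIntegral X] {L : X.Modules} (hL : PicF.IsInvertible L)
    (s : Coh.structureModule X ⟶ L) (hs : s ≠ 0) :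
    ∃ D : Mero.Divisor X, Mero.IsDivOfIdeal D (PicF2.zeroScheme L s) ∧
      ∃ e : L ≅ Mero.divMod D,
        (Mero.divModι D).app ⊤ (e.hom.app ⊤ (SecTwist.val s ⊤)) = 1 := by
  let σ : Γ(L, ⊤) := PicF2.secVal L s ⊤
  let s₀ := Mero.toMerFun L ⊤ σ
  have hs₀ : ∀ {U : X.Opens} {e : Γ(L, U)} (c : Γ(X, U)), c • e = PicF2.secVal L s U → ∀ y : U,
      s₀.1 ⟨y.1, trivial⟩ = algebraMap _ (Mero.KStalk X y.1) (X.presheaf.germ U y.1 y.2 c) •
        mone (L.presheaf.germ U y.1 y.2 e) := by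
    intro U e c hc y
    rw [← mone_smul, ← Mero.germ_smul, hc, ← val_res L s, TopCat.Presheaf.germ_res_apply]
    rfl
  have hreg : Mero.IsRegularMero L s₀ := fun x q hq => by
    obtain ⟨U, hx, e, he⟩ := exists_frame' hL x
    obtain ⟨c, hc⟩ := (he U le_rfl).2 (PicF2.secVal L s U)
    replace hc : c • e = PicF2.secVal L s U := by simpa [res] using hc
    rw [hs₀ c hc ⟨x, hx⟩, smul_smul] at hq
    have h1 := (isGen_germ he ⟨x, hx⟩).eq_zero hq
    obtain ⟨a, b, rfl⟩ := IsLocalization.exists_mk'_eq (Mero.regStalk X x) q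
    rw [← IsLocalization.mk'_one (M := Mero.regStalk X x) (Mero.KStalk X x) (X.presheaf.germ U x hx c),
      ← IsLocalization.mk'_mul] at h1
    replace h1 := mk'_eq_zero h1
    rcases mul_eq_zero.mp h1 with h2 | h2
    · rw [h2, IsLocalization.mk'_zero]
    · exact absurd h2 (coord_germ_ne_zero hL s hs he c hc ⟨x, hx⟩)
  obtain ⟨D, hD⟩ := exists_isDivOfMero hL s₀ hreg
  refine ⟨D, fun x => ?_, ?_⟩
  · obtain ⟨W, hxW, -, e, he⟩ := exists_affine_frame hL x ⊤ trivial
    obtain ⟨c, hc⟩ := (he W.1 le_rfl).2 (PicF2.secVal L s W.1)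
    replace hc : c • e = PicF2.secVal L s W.1 := by simpa [res] using hc
    have hcreg : c ∈ Mero.regSub X W.1 := fun y =>
      mem_nonZeroDivisors_of_ne_zero (coord_germ_ne_zero hL s hs he c hc y)
    exact ⟨W, hxW, c, hcreg, ideal_zeroScheme (isFinLocFreeOfRank_of_isInvertible hL) W he hc,
      fun y => hD y.1 _ _ (isGen_germ he y).span_eq_top (hs₀ c hc y)⟩
  · obtain ⟨φ, hφ⟩ := exists_iso_divMod hL s₀ hreg D hD
    refine ⟨φ, kext fun y => smul_inj_of_regular s₀ hreg y.1 ?_⟩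
    refine (hφ ⊤ σ y).trans ?_
    rw [Mero.kmod_one_apply, one_smul]
    rfl

/-- An effective divisor is the zero scheme of the section `1` of `O(D)`. -/
theorem exists_section_of_effective [Nonempty X] (L : X.Modules) (hL : PicF.IsInvertible L) (D : Mero.Divisor X)
    (hD : Mero.IsEffective D) (φ : L ≅ Mero.divMod D) :
    ∃ s : Coh.structureModule X ⟶ L, s ≠ 0 ∧ Mero.IsDivOfIdeal D (PicF2.zeroScheme L s) := by
  have h1 : ∀ x : X, Mero.DivCond D x 1 := by
    intro x g hg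
    obtain ⟨a, ha⟩ := hD x
    have h := (mk_regUnit_mul_cls D 1 _ ha).mpr ⟨a.1, (one_mul _).symm⟩
    exact h g hg
  let one : Γ(Mero.divMod D, ⊤) := ⟨fun _ => 1, Mero.kLoc_one X ⊤, fun x => h1 x.1⟩
  let σ : Γ(L, ⊤) := φ.inv.app ⊤ one
  let s := Var76.Frames.ofSection L σ
  have hval : ∀ V : X.Opens, PicF2.secVal L s V = res L le_top σ := Var76.Frames.val_ofSection L σ
  have hσ : φ.hom.app ⊤ σ = one := by
    change ((φ.inv ≫ φ.hom).app ⊤) one = one
    rw [φ.inv_hom_id]; rfl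
  refine ⟨s, fun h0 => ?_, fun x => ?_⟩
  · obtain ⟨x⟩ := ‹Nonempty X›
    have h2 : σ = 0 := by
      have := (hval ⊤).symm
      rw [show PicF2.secVal L s ⊤ = (0 : Γ(L, ⊤)) by rw [h0]; rfl] at this
      refine Eq.trans (Eq.symm ?_) this
      simp [res]
    have h3 : φ.hom.app ⊤ σ = 0 := by rw [h2]; exact map_zero _
    rw [hσ] at h3
    exact one_ne_zero (congrArg (fun t : Γ(Mero.divMod D, ⊤) => t.1 ⟨x, trivial⟩) h3)
  · obtain ⟨U, hxU, f, hf⟩ := D.2 x
    obtain ⟨W, hW, hxW, hle⟩ := exists_isAffineOpen_mem_and_subset hxU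
    have hle' : W ≤ U := hle
    let fW : (Γ(Mero.kmod X, W))ˣ := Units.map ((Mero.kring X).obj.map (homOfLE hle').op).hom.toMonoidHom f
    have hfW : ∀ y : W, D.1 y.1 = Mero.germOf fW y := fun y => (hf ⟨y.1, hle' y.2⟩).trans (congrArg _ (Units.ext rfl))
    obtain ⟨c, hc⟩ := exists_toK_eq fW.1 fun y => by
      have h := (germOf_eq_iff D fW y.2 (hfW y) 1).mp (h1 y.1)
      rwa [one_mul] at h
    let e : Γ(L, W) := φ.inv.app W (frameSec D fW hfW)
    have hframe : IsFrame L W e := by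
      intro V hV
      have hb := isFrame_frameSec D fW hfW V hV
      have : (fun a : Γ(X, V) => a • res L hV e) =
          φ.inv.app V ∘ fun a => a • res (Mero.divMod D) hV (frameSec D fW hfW) := by
        funext a
        simp only [Function.comp_apply, e]
        rw [← app_res, Scheme.Modules.Hom.app_smul]
      rw [this]
      exact (ConcreteCategory.bijective_of_isIso (φ.inv.app V)).comp hb
    have hce : c • e = PicF2.secVal L s W := by
      rw [hval]
      change c • φ.inv.app W _ = res L _ (φ.inv.app ⊤ one)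
      rw [← app_res, ← Scheme.Modules.Hom.app_smul]
      refine congrArg (φ.inv.app W) (Subtype.ext (funext fun y => ?_))
      change X.presheaf.germ W y.1 y.2 c • (fW⁻¹).1.1 y = 1
      rw [Algebra.smul_def, ← toK_val, hc, ← Mero.kmod_mul_apply, Units.mul_inv, Mero.kmod_one_apply]
    have hcreg : c ∈ Mero.regSub X W := fun y => by
      refine nzd_of_isUnit_mk' (b := 1) ?_
      rw [IsLocalization.mk'_one, ← toK_val, hc]
      exact eval_isUnit fW y
    refine ⟨⟨W, hW⟩, hxW, c, hcreg, ideal_zeroScheme (isFinLocFreeOfRank_of_isInvertible hL) ⟨W, hW⟩ hframe hce,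
      fun y => ?_⟩
    refine (hfW y).trans (congrArg _ (Units.ext ?_))
    change fW.1.1 y = _
    rw [← hc, toK_val]
    rfl

end Groth.Agent.Mero90
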