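import Groth.Agent.Mero90.Basic
import Groth.Agent.Var76.LineBundle
import Groth.Agent.EGA73.Invertible

/-! Sections of `K_X`, and frames of `O_X(D)`. -/

universe u

open CategoryTheory AlgebraicGeometry TopologicalSpace Opposite

namespace Groth.Agent.Mero90

open Var76.LineBundle

variable {X : Scheme.{u}}

lemma toK_val {U : X.Opens} (r : Γ(X, U)) (x : U) :
    (Mero.toK X U r).1 x = algebraMap _ (Mero.KStalk X x.1) (X.presheaf.germ U x.1 x.2 r) := by
  rw [Mero.toK_apply, mk_eq_mk', IsLocalization.mk'_one]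

lemma toK_injective (U : X.Opens) : Function.Injective (Mero.toK X U) := fun r s h =>
  TopCat.Presheaf.section_ext X.sheaf U r s fun x hx => Mero.algebraMap_KStalk_injective x
    (((toK_val r ⟨x, hx⟩).symm.trans (congrArg (fun q : Γ(Mero.kmod X, U) => q.1 ⟨x, hx⟩) h)).trans
      (toK_val s ⟨x, hx⟩))

/-- A meromorphic function with all values in the local rings is a function. -/
lemma exists_toK_eq {V : X.Opens} (h : Γ(Mero.kmod X, V))
    (hh : ∀ y : V, h.1 y ∈ (algebraMap (X.presheaf.stalk y.1) (Mero.KStalk X y.1)).range) :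
    ∃ c : Γ(X, V), Mero.toK X V c = h := by
  have loc : ∀ y : V, ∃ (W : X.Opens) (_ : y.1 ∈ W) (hW : W ≤ V) (c : Γ(X, W)),
      ∀ z : W, h.1 ⟨z.1, hW z.2⟩ = (Mero.toK X W c).1 z := by
    intro y
    obtain ⟨W, hy, hW, a, b, w⟩ := exists_frac h y
    have := hh y
    rw [show h.1 y = _ from w ⟨y.1, hy⟩, range_eq] at this
    obtain ⟨c', hc'⟩ := this
    obtain ⟨W', hy', c'', rfl⟩ := TopCat.Presheaf.exists_germ_eq X.presheaf c'
    let W₀ := W ⊓ W'
    have e : X.presheaf.germ W₀ y.1 ⟨hy, hy'⟩ (X.presheaf.map (homOfLE inf_le_left).op a) =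
        X.presheaf.germ W₀ y.1 ⟨hy, hy'⟩ (X.presheaf.map (homOfLE inf_le_left).op b.1 *
          X.presheaf.map (homOfLE inf_le_right).op c'') := by
      rw [map_mul, TopCat.Presheaf.germ_res_apply, TopCat.Presheaf.germ_res_apply,
        TopCat.Presheaf.germ_res_apply]
      exact hc'
    obtain ⟨W₁, hy₁, i, i', he⟩ := TopCat.Presheaf.germ_eq X.presheaf y.1 _ _ _ _ e
    refine ⟨W₁, hy₁, (i.le.trans inf_le_left).trans hW,
      X.presheaf.map (homOfLE (i.le.trans inf_le_right)).op c'', fun z => ?_⟩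
    refine (w ⟨z.1, (i.le z.2).1⟩).trans ?_
    rw [toK_val, IsLocalization.mk'_eq_iff_eq_mul, ← map_mul]
    refine congrArg _ ?_
    have := congrArg (fun t => X.presheaf.germ W₁ z.1 z.2 t) he
    simp only [map_mul, TopCat.Presheaf.germ_res_apply] at this
    rw [TopCat.Presheaf.germ_res_apply, mul_comm]
    exact this
  choose W hy hW c hc using loc
  have compat : TopCat.Presheaf.IsCompatible X.presheaf W c := fun i j => toK_injective _ (kext fun z => by
    have hi := hc i ⟨z.1, z.2.1⟩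
    have hj := hc j ⟨z.1, z.2.2⟩
    rw [toK_val] at hi hj
    simp only [toK_val, TopCat.Presheaf.germ_res_apply]
    exact hi.symm.trans hj)
  obtain ⟨g, hg, -⟩ := X.sheaf.existsUnique_gluing' W V (fun i => homOfLE (hW i))
    (fun y hy' => Opens.mem_iSup.2 ⟨⟨y, hy'⟩, hy ⟨y, hy'⟩⟩) c compat
  refine ⟨g, kext fun z => ?_⟩
  have := hc z ⟨z.1, hy z⟩
  rw [toK_val, ← hg z] at this
  rw [toK_val]
  refine Eq.trans ?_ this.symm
  exact congrArg _ (TopCat.Presheaf.germ_res_apply _ _ _ _ _).symm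

/-- A meromorphic function which kills no germ is a unit. -/
lemma isUnit_of_locally {U : X.Opens} (f : Γ(Mero.kmod X, U))
    (hf : ∀ (y : U) (c : X.presheaf.stalk y.1), algebraMap _ (Mero.KStalk X y.1) c * f.1 y = 0 → c = 0) :
    IsUnit f := by
  have loc : ∀ y : U, ∃ (W : X.Opens) (_ : y.1 ∈ W) (hW : W ≤ U) (a b : Mero.regSub X W),
      ∀ z : W, f.1 ⟨z.1, hW z.2⟩ = IsLocalization.mk' (Mero.KStalk X z.1)
        (X.presheaf.germ W z.1 z.2 a.1) (Mero.regGerm z b) := by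
    intro y
    obtain ⟨W, hy, hW, a, b, w⟩ := exists_frac f y
    refine ⟨W, hy, hW, ⟨a, fun z => mem_nonZeroDivisors_iff_right.mpr fun c hc => hf ⟨z.1, hW z.2⟩ c ?_⟩,
      b, w⟩
    rw [show f.1 ⟨z.1, hW z.2⟩ = _ from w z,
      ← IsLocalization.mk'_one (M := Mero.regStalk X z.1) (Mero.KStalk X z.1) c,
      ← IsLocalization.mk'_mul, hc, IsLocalization.mk'_zero]
  have hu : ∀ y : U, IsUnit (f.1 y) := by
    intro y
    obtain ⟨W, hy, hW, a, b, w⟩ := loc y
    rw [show f.1 y = _ from w ⟨y.1, hy⟩,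
      ← regUnit_div_val y.1 (Mero.regGerm ⟨y.1, hy⟩ a) (Mero.regGerm ⟨y.1, hy⟩ b)]
    exact Units.isUnit _
  let g : Γ(Mero.kmod X, U) := ⟨fun y => ((hu y).unit⁻¹ : _), fun y => by
    obtain ⟨W, hy, hW, a, b, w⟩ := loc y
    refine ⟨W, hy, homOfLE hW, b.1, a, fun z => ?_⟩
    change ((hu ⟨z.1, hW z.2⟩).unit⁻¹ : (Mero.KStalk X z.1)ˣ).1 = _
    rw [mk_eq_mk', Units.inv_eq_of_mul_eq_one_right]
    rw [IsUnit.unit_spec, w z, ← IsLocalization.mk'_mul, IsLocalization.mk'_eq_iff_eq_mul, one_mul]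
    exact congrArg _ (mul_comm _ _)⟩
  exact IsUnit.of_mul_eq_one g (kext fun y => (hu y).mul_val_inv)

lemma germOf_eq_iff {x : X} (D : Mero.Divisor X) {U : X.Opens} (f : (Γ(Mero.kmod X, U))ˣ) (hx : x ∈ U)
    (h : D.1 x = Mero.germOf f ⟨x, hx⟩) (t : Mero.KStalk X x) :
    Mero.DivCond D x t ↔ t * f.1.1 ⟨x, hx⟩ ∈ (algebraMap (X.presheaf.stalk x) (Mero.KStalk X x)).range :=
  mk_regUnit_mul_cls D t _ h

/-- The inverse of a local equation, as a section of `O(D)`. -/
noncomputable def frameSec (D : Mero.Divisor X) {U : X.Opens} (f : (Γ(Mero.kmod X, U))ˣ)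
    (hf : ∀ y : U, D.1 y.1 = Mero.germOf f y) : Γ(Mero.divMod D, U) :=
  ⟨(f⁻¹).1.1, (f⁻¹).1.2, fun y => (germOf_eq_iff D f y.2 (hf y) _).mpr ⟨1, by
    rw [map_one, ← Mero.kmod_mul_apply, Units.inv_mul, Mero.kmod_one_apply]⟩⟩

/-- A local equation gives a frame of `O(D)`. -/
theorem isFrame_frameSec (D : Mero.Divisor X) {U : X.Opens} (f : (Γ(Mero.kmod X, U))ˣ)
    (hf : ∀ y : U, D.1 y.1 = Mero.germOf f y) : IsFrame (Mero.divMod D) U (frameSec D f hf) := by
  intro V hV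
  have hval : ∀ (c : Γ(X, V)) (y : V), (c • res (Mero.divMod D) hV (frameSec D f hf) : Γ(Mero.divMod D, V)).1 y =
      algebraMap _ (Mero.KStalk X y.1) (X.presheaf.germ V y.1 y.2 c) * (f⁻¹).1.1 ⟨y.1, hV y.2⟩ :=
    fun c y => Algebra.smul_def _ _
  constructor
  · intro c c' hcc
    refine toK_injective V (kext fun y => ?_)
    have := congrArg (fun t : Γ(Mero.divMod D, V) => t.1 y) hcc
    dsimp only at this
    rw [hval, hval] at this
    rw [toK_val, toK_val]
    have e := congrArg (· * f.1.1 ⟨y.1, hV y.2⟩) this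
    simpa only [mul_assoc, ← Mero.kmod_mul_apply, Units.inv_mul, Mero.kmod_one_apply, mul_one] using e
  · intro t
    obtain ⟨c, hc⟩ := exists_toK_eq ((Mero.divModι D).app V t * (Mero.kmod X).presheaf.map (homOfLE hV).op f.1)
      fun y => (germOf_eq_iff D f (hV y.2) (hf ⟨y.1, hV y.2⟩) _).mp (t.2.2 y)
    refine ⟨c, Subtype.ext (funext fun y => ?_)⟩
    have h := congrArg (fun q : Γ(Mero.kmod X, V) => q.1 y) hc
    dsimp only at h
    rw [toK_val] at h
    refine (hval c y).trans ?_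
    rw [h]
    change t.1 y * f.1.1 ⟨y.1, hV y.2⟩ * (f⁻¹).1.1 ⟨y.1, hV y.2⟩ = _
    rw [mul_assoc, ← Mero.kmod_mul_apply, Units.mul_inv, Mero.kmod_one_apply, mul_one]

theorem exists_frame_divMod (D : Mero.Divisor X) (x : X) :
    ∃ U : X.Opens, x ∈ U ∧ ∃ e : Γ(Mero.divMod D, U), IsFrame (Mero.divMod D) U e := by
  obtain ⟨U, hx, f, hf⟩ := D.2 x
  exact ⟨U, hx, _, isFrame_frameSec D f hf⟩

theorem isInvertible_divMod (D : Mero.Divisor X) : PicF.IsInvertible (Mero.divMod D) := fun x => by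
  obtain ⟨U, hx, e, he⟩ := exists_frame_divMod D x
  exact ⟨U, hx, EGA73.nonempty_restrict_iso_unit _ U e he⟩

end Groth.Agent.Mero90
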