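import Groth.Agent.Mero90.TensorLift
import Groth.Agent.Mero90.Sections

/-! `O(D) ⊗ O(E) = O(D E)` and zero schemes of tensor products of sections. -/

universe u

open CategoryTheory AlgebraicGeometry TopologicalSpace Opposite

namespace Groth.Agent.Mero90

open Var76.LineBundle Var76.ZeroScheme

variable {X : Scheme.{u}}

lemma divCond_mul {D E : Mero.Divisor X} {x : X} {t t' : Mero.KStalk X x} (h : Mero.DivCond D x t)
    (h' : Mero.DivCond E x t') : Mero.DivCond (D * E) x (t * t') := by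
  obtain ⟨g, hg⟩ := QuotientGroup.mk_surjective (D.1 x)
  obtain ⟨g', hg'⟩ := QuotientGroup.mk_surjective (E.1 x)
  refine (mk_regUnit_mul_cls (D * E) _ (g * g') ?_).mpr ?_
  · change D.1 x * E.1 x = _
    rw [← hg, ← hg']; rfl
  · rw [Units.val_mul, mul_mul_mul_comm]
    exact mul_mem (h g hg.symm) (h' g' hg'.symm)

/-- Multiplication of two sections of `O(D)` and `O(E)`. -/
noncomputable def mulSec (D E : Mero.Divisor X) {U : X.Opens} (t : Γ(Mero.divMod D, U))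
    (t' : Γ(Mero.divMod E, U)) : Γ(Mero.divMod (D * E), U) :=
  ⟨t.1 * t'.1, Mero.kLoc_mul X U _ _ t.2.1 t'.2.1, fun y => divCond_mul (t.2.2 y) (t'.2.2 y)⟩

variable {L L' : X.Modules}

/-- The multiplication pairing, through trivialisations. -/
noncomputable def mulPairing {D E : Mero.Divisor X} (φ : L ⟶ Mero.divMod D) (ψ : L' ⟶ Mero.divMod E) :
    Pairing L L' (Mero.divMod (D * E)) where
  b U m n := mulSec D E (φ.app U m) (ψ.app U n)
  add_left U m m' n := Subtype.ext (funext fun y => by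
    change (φ.app U (m + m')).1 y * _ = (φ.app U m).1 y * _ + (φ.app U m').1 y * _
    rw [map_add]
    exact add_mul _ _ _)
  add_right U m n n' := Subtype.ext (funext fun y => by
    change _ * (ψ.app U (n + n')).1 y = _ * (ψ.app U n).1 y + _ * (ψ.app U n').1 y
    rw [map_add]
    exact mul_add _ _ _)
  smul_left U r m n := Subtype.ext (funext fun y => by
    change (φ.app U (r • m)).1 y * _ = X.presheaf.germ U y.1 y.2 r • ((φ.app U m).1 y * _)
    rw [Scheme.Modules.Hom.app_smul]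
    exact smul_mul_assoc _ _ _)
  smul_right U r m n := Subtype.ext (funext fun y => by
    change _ * (ψ.app U (r • n)).1 y = X.presheaf.germ U y.1 y.2 r • (_ * (ψ.app U n).1 y)
    rw [Scheme.Modules.Hom.app_smul]
    exact mul_smul_comm _ _ _)
  nat U V h m n := by
    rw [app_res, app_res]
    rfl

lemma mulSec_res {D E : Mero.Divisor X} {U V : X.Opens} (h : V ≤ U) (t : Γ(Mero.divMod D, U))
    (t' : Γ(Mero.divMod E, U)) :
    res (Mero.divMod (D * E)) h (mulSec D E t t') = mulSec D E (res _ h t) (res _ h t') := rfl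

lemma isFrame_comp {M N : X.Modules} (φ : M ≅ N) {U : X.Opens} {e : Γ(N, U)} (he : IsFrame N U e) :
    IsFrame M U (φ.inv.app U e) := by
  intro V hV
  have : (fun a : Γ(X, V) => a • res M hV (φ.inv.app U e)) = φ.inv.app V ∘ fun a => a • res N hV e := by
    funext a
    simp only [Function.comp_apply]
    rw [← app_res, Scheme.Modules.Hom.app_smul]
  rw [this]
  exact (ConcreteCategory.bijective_of_isIso (φ.inv.app V)).comp (he V hV)

lemma app_inv_app {M N : X.Modules} (φ : M ≅ N) (U : X.Opens) (n : Γ(N, U)) :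
    φ.hom.app U (φ.inv.app U n) = n := by
  change ((φ.inv ≫ φ.hom).app U) n = n
  rw [φ.inv_hom_id]; rfl

theorem isIso_mulPairing_lift {D E : Mero.Divisor X} (φ : L ≅ Mero.divMod D) (ψ : L' ≅ Mero.divMod E) :
    IsIso (mulPairing φ.hom ψ.hom).lift := by
  refine Pairing.isIso_lift _ fun x => ?_
  obtain ⟨U₁, hx₁, f₁, hf₁⟩ := D.2 x
  obtain ⟨U₂, hx₂, f₂, hf₂⟩ := E.2 x
  let U := U₁ ⊓ U₂
  let g₁ : (Γ(Mero.kmod X, U))ˣ := Units.map ((Mero.kring X).obj.map (homOfLE inf_le_left).op).hom.toMonoidHom f₁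
  let g₂ : (Γ(Mero.kmod X, U))ˣ := Units.map ((Mero.kring X).obj.map (homOfLE inf_le_right).op).hom.toMonoidHom f₂
  have hg₁ : ∀ y : U, D.1 y.1 = Mero.germOf g₁ y := fun y => (hf₁ ⟨y.1, y.2.1⟩).trans (congrArg _ (Units.ext rfl))
  have hg₂ : ∀ y : U, E.1 y.1 = Mero.germOf g₂ y := fun y => (hf₂ ⟨y.1, y.2.2⟩).trans (congrArg _ (Units.ext rfl))
  have hg : ∀ y : U, (D * E).1 y.1 = Mero.germOf (g₁ * g₂) y := fun y => by
    change D.1 y.1 * E.1 y.1 = _
    rw [hg₁, hg₂, Mero.germOf, Mero.germOf, ← QuotientGroup.mk_mul, ← map_mul]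
  refine ⟨U, φ.inv.app U (frameSec D g₁ hg₁), ψ.inv.app U (frameSec E g₂ hg₂), ⟨hx₁, hx₂⟩,
    isFrame_comp φ (isFrame_frameSec D g₁ hg₁), isFrame_comp ψ (isFrame_frameSec E g₂ hg₂), ?_⟩
  have : (mulPairing φ.hom ψ.hom).b U (φ.inv.app U (frameSec D g₁ hg₁)) (ψ.inv.app U (frameSec E g₂ hg₂)) =
      frameSec (D * E) (g₁ * g₂) hg := by
    change mulSec D E (φ.hom.app U _) (ψ.hom.app U _) = _
    rw [app_inv_app, app_inv_app]
    refine Subtype.ext ?_
    change g₁⁻¹.1.1 * g₂⁻¹.1.1 = (g₁ * g₂)⁻¹.1.1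
    rw [mul_inv]
    rfl
  rw [this]
  exact isFrame_frameSec (D * E) (g₁ * g₂) hg

theorem exists_mulHom (D E : Mero.Divisor X) :
    ∃ μ : CohB1.tensorMod (Mero.divMod D) (Mero.divMod E) ⟶ Mero.divMod (D * E),
      (∀ (U : X.Opens) (t : Γ(Mero.divMod D, U)) (t' : Γ(Mero.divMod E, U)),
        (Mero.divModι (D * E)).app U (μ.app U (SecTwist.tmul (Mero.divMod D) (Mero.divMod E) U t t')) =
          (Mero.divModι D).app U t * (Mero.divModι E).app U t') ∧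
      IsIso μ :=
  ⟨(mulPairing (Iso.refl (Mero.divMod D)).hom (Iso.refl (Mero.divMod E)).hom).lift,
    fun U t t' => by rw [Pairing.lift_tmul]; rfl, isIso_mulPairing_lift _ _⟩

/-- Divisors of an ideal sheaf are unique. -/
theorem isDivOfIdeal_unique {I : X.IdealSheafData} {D D' : Mero.Divisor X} (h : Mero.IsDivOfIdeal D I)
    (h' : Mero.IsDivOfIdeal D' I) : D = D' := by
  refine Subtype.ext (funext fun y => ?_)
  obtain ⟨U, hyU, f, hf, hI, hD⟩ := h y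
  obtain ⟨U', hyU', f', hf', hI', hD'⟩ := h' y
  obtain ⟨W, hW, hyW, hle⟩ := exists_isAffineOpen_mem_and_subset (show y ∈ U.1 ⊓ U'.1 from ⟨hyU, hyU'⟩)
  have hWU : W ≤ U.1 := fun z hz => (hle hz).1
  have hWU' : W ≤ U'.1 := fun z hz => (hle hz).2
  have e : Ideal.span {X.presheaf.map (homOfLE hWU).op f} = Ideal.span {X.presheaf.map (homOfLE hWU').op f'} := by
    have h1 := I.map_ideal (U := ⟨W, hW⟩) (V := U) hWU
    have h2 := I.map_ideal (U := ⟨W, hW⟩) (V := U') hWU'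
    rw [hI, Ideal.map_span, Set.image_singleton] at h1
    rw [hI', Ideal.map_span, Set.image_singleton] at h2
    exact h1.trans h2.symm
  have h1 := map_dvd (X.presheaf.germ W y hyW).hom (Ideal.span_singleton_le_span_singleton.mp e.le)
  have h2 := map_dvd (X.presheaf.germ W y hyW).hom (Ideal.span_singleton_le_span_singleton.mp e.ge)
  rw [TopCat.Presheaf.germ_res_apply, TopCat.Presheaf.germ_res_apply] at h1 h2
  rw [hD ⟨y, hyU⟩, hD' ⟨y, hyU'⟩]
  refine QuotientGroup.eq_iff_div_mem.mpr ((mk_mem_stalkUnits_iff (Mero.regGerm ⟨y, hyU⟩ ⟨f, hf⟩)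
    (Mero.regGerm ⟨y, hyU'⟩ ⟨f', hf'⟩)).mpr ?_)
  obtain ⟨p, hp⟩ := h1
  obtain ⟨q, hq⟩ := h2
  have hnz := mem_nonZeroDivisors_iff_right.mp (hf' ⟨y, hyU'⟩)
  have hpq : p * q = 1 := by
    refine sub_eq_zero.mp (hnz _ ?_)
    rw [sub_mul, one_mul, sub_eq_zero]
    calc p * q * _ = (X.presheaf.germ U'.1 y hyU' f' * p) * q := by ring
      _ = _ := by rw [← hp, ← hq]
  exact ⟨Units.mkOfMulEqOne p q hpq, hp.symm⟩

/-- The zero scheme of a section sent to `1` by `L ≅ O(D)` is the divisor `D`. -/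
theorem isDivOfIdeal_of_iso_one (hL : PicF.IsInvertible L) (s : Coh.structureModule X ⟶ L)
    (D : Mero.Divisor X) (φ : L ≅ Mero.divMod D)
    (h1 : ∀ y, (φ.hom.app ⊤ (PicF2.secVal L s ⊤)).1 y = 1) :
    Mero.IsDivOfIdeal D (PicF2.zeroScheme L s) := by
  intro x
  obtain ⟨U, hxU, f, hf⟩ := D.2 x
  obtain ⟨W, hW, hxW, hle⟩ := exists_isAffineOpen_mem_and_subset hxU
  have hle' : W ≤ U := hle
  let fW : (Γ(Mero.kmod X, W))ˣ := Units.map ((Mero.kring X).obj.map (homOfLE hle').op).hom.toMonoidHom f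
  have hfW : ∀ y : W, D.1 y.1 = Mero.germOf fW y := fun y => (hf ⟨y.1, hle' y.2⟩).trans (congrArg _ (Units.ext rfl))
  have hone : ∀ y : W, Mero.DivCond D y.1 (1 : Mero.KStalk X y.1) := fun y =>
    h1 ⟨y.1, trivial⟩ ▸ (φ.hom.app ⊤ (PicF2.secVal L s ⊤)).2.2 ⟨y.1, trivial⟩
  obtain ⟨c, hc⟩ := exists_toK_eq fW.1 fun y => by
    have h := (germOf_eq_iff D fW y.2 (hfW y) 1).mp (hone y)
    rwa [one_mul] at h
  let e : Γ(L, W) := φ.inv.app W (frameSec D fW hfW)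
  have hframe : IsFrame L W e := isFrame_comp φ (isFrame_frameSec D fW hfW)
  have hce : c • e = PicF2.secVal L s W := by
    refine (ConcreteCategory.bijective_of_isIso (φ.hom.app W)).1 ?_
    rw [Scheme.Modules.Hom.app_smul, app_inv_app, ← val_res L s, app_res]
    refine Subtype.ext (funext fun y => ?_)
    change X.presheaf.germ W y.1 y.2 c • (fW⁻¹).1.1 y = (φ.hom.app ⊤ (PicF2.secVal L s ⊤)).1 ⟨y.1, trivial⟩
    rw [h1, Algebra.smul_def, ← toK_val, hc, ← Mero.kmod_mul_apply, Units.mul_inv, Mero.kmod_one_apply]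
  have hcreg : c ∈ Mero.regSub X W := fun y => by
    refine nzd_of_isUnit_mk' (b := 1) ?_
    rw [IsLocalization.mk'_one, ← toK_val, hc]
    exact eval_isUnit fW y
  refine ⟨⟨W, hW⟩, hxW, c, hcreg, ideal_zeroScheme (isFinLocFreeOfRank_of_isInvertible hL) ⟨W, hW⟩ hframe hce,
    fun y => ?_⟩
  refine (hfW y).trans (congrArg _ (Units.ext ?_))
  change fW.1.1 y = _
  rw [← hc, toK_val]
  rfl

theorem isDivOfIdeal_tmulHom [IsIntegral X] (L₁ L₂ : X.Modules) (hL₁ : PicF.IsInvertible L₁)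
    (hL₂ : PicF.IsInvertible L₂) (s₁ : Coh.structureModule X ⟶ L₁) (s₂ : Coh.structureModule X ⟶ L₂)
    (hs₁ : s₁ ≠ 0) (hs₂ : s₂ ≠ 0) (D₁ D₂ : Mero.Divisor X)
    (hD₁ : Mero.IsDivOfIdeal D₁ (PicF2.zeroScheme L₁ s₁)) (hD₂ : Mero.IsDivOfIdeal D₂ (PicF2.zeroScheme L₂ s₂)) :
    Mero.IsDivOfIdeal (D₁ * D₂) (PicF2.zeroScheme (CohB1.tensorMod L₁ L₂) (SecTwist.tmulHom s₁ s₂)) := by
  obtain ⟨E₁, hE₁, φ, hφ⟩ := exists_div_of_section hL₁ s₁ hs₁
  obtain ⟨E₂, hE₂, ψ, hψ⟩ := exists_div_of_section hL₂ s₂ hs₂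
  obtain rfl := isDivOfIdeal_unique hD₁ hE₁
  obtain rfl := isDivOfIdeal_unique hD₂ hE₂
  have := isIso_mulPairing_lift φ ψ
  refine isDivOfIdeal_of_iso_one (EGA73.isInvertible_tensorMod hL₁ hL₂) _ (D₁ * D₂)
    (asIso (mulPairing φ.hom ψ.hom).lift) fun y => ?_
  rw [show PicF2.secVal (CohB1.tensorMod L₁ L₂) (SecTwist.tmulHom s₁ s₂) ⊤ =
    SecTwist.tmul L₁ L₂ ⊤ (SecTwist.val s₁ ⊤) (SecTwist.val s₂ ⊤) from SecTwist.val_tmulHom s₁ s₂ ⊤, asIso_hom,
    Pairing.lift_tmul]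
  have h₁ : (φ.hom.app ⊤ (SecTwist.val s₁ ⊤)).1 y = 1 := congrArg (fun k : Γ(Mero.kmod X, ⊤) => k.1 y) hφ
  have h₂ : (ψ.hom.app ⊤ (SecTwist.val s₂ ⊤)).1 y = 1 := congrArg (fun k : Γ(Mero.kmod X, ⊤) => k.1 y) hψ
  change (φ.hom.app ⊤ (SecTwist.val s₁ ⊤)).1 y * (ψ.hom.app ⊤ (SecTwist.val s₂ ⊤)).1 y = 1
  rw [h₁, h₂, one_mul]

end Groth.Agent.Mero90
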