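import Groth.Agent.Mero90.Domain
import Groth.Agent.Mero90.DivMod
import Groth.Agent.RatFun90.Dense
import Mathlib.RingTheory.Ideal.AssociatedPrime.Finiteness

/-! Extension of functions on a schematically dense open to meromorphic functions. -/

universe u

open CategoryTheory AlgebraicGeometry TopologicalSpace Opposite

namespace Groth.Agent.Mero90

variable {X : Scheme.{u}}

/-- `V` is schematically dense in `U`. -/
def SchDense (U V : X.Opens) : Prop :=
  ∀ W : X.Opens, W ≤ U → Function.Injective ⇑(X.presheaf.map (homOfLE (inf_le_left : W ⊓ V ≤ W)).op)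

lemma SchDense.eq_zero {U V W : X.Opens} (hd : SchDense U V) (hW : W ≤ U) (a : Γ(X, W))
    (h : ∀ (y : X) (hy : y ∈ W), y ∈ V → X.presheaf.germ W y hy a = 0) : a = 0 := by
  refine hd W hW (TopCat.Presheaf.section_ext X.sheaf _ _ _ fun y hy => ?_)
  change X.presheaf.germ _ y hy _ = X.presheaf.germ _ y hy _
  rw [map_zero, map_zero, TopCat.Presheaf.germ_res_apply]
  exact h y hy.1 hy.2

/-- A meromorphic function vanishing on a schematically dense open vanishes. -/
lemma SchDense.kzero {U V W : X.Opens} (hd : SchDense U V) (hW : W ≤ U) (k : Γ(Mero.kmod X, W))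
    (h : ∀ y : W, y.1 ∈ V → k.1 y = 0) : k = 0 := by
  refine kext fun z => ?_
  obtain ⟨N, hz, hN, a, b, w⟩ := exists_frac k z
  have : a = 0 := hd.eq_zero (hN.trans hW) a fun y hy hyV => by
    have h0 := h ⟨y, hN hy⟩ hyV
    rw [show k.1 ⟨y, hN hy⟩ = _ from w ⟨y, hy⟩, IsLocalization.mk'_eq_zero_iff] at h0
    obtain ⟨m, hm⟩ := h0
    exact (mem_nonZeroDivisors_iff.mp (Mero.regStalk_le_nonZeroDivisors _ m.2)).1 _ hm
  rw [show k.1 z = _ from w ⟨z.1, hz⟩, this, map_zero, IsLocalization.mk'_zero]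
  rfl

/-- The zero divisors of an affine open lie in finitely many primes which support a nonzero function. -/
def FinZeroDiv (A : Type u) [CommRing A] : Prop :=
  ∃ P : Finset (Ideal A), (∀ p ∈ P, p.IsPrime ∧ ∃ a : A, a ≠ 0 ∧ ∀ s ∈ p, ∃ n : ℕ, s ^ n * a = 0) ∧
    ∀ b : A, (∀ p ∈ P, b ∉ p) → b ∈ nonZeroDivisors A

lemma finZeroDiv_of_isNoetherianRing (A : Type u) [CommRing A] [IsNoetherianRing A] : FinZeroDiv A := by
  classical
  refine ⟨(associatedPrimes.finite A A).toFinset, fun p hp => ?_, fun b hb => ?_⟩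
  · rw [Set.Finite.mem_toFinset] at hp
    obtain ⟨hprime, a, ha⟩ := hp
    refine ⟨hprime, a, fun h0 => hprime.ne_top ?_, fun s hs => ?_⟩
    · rw [ha, h0, Ideal.radical_eq_top]
      exact Ideal.eq_top_iff_one _ |>.mpr (Submodule.mem_colon_singleton.mpr (by simp))
    · rw [ha] at hs
      obtain ⟨n, hn⟩ := hs
      exact ⟨n, by simpa using Submodule.mem_colon_singleton.mp hn⟩
  · by_contra hbz
    have : b ∈ ⋃ p ∈ associatedPrimes A A, (p : Set A) := by
      rw [biUnion_associatedPrimes_eq_compl_nonZeroDivisors]; exact hbz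
    obtain ⟨p, hp, hbp⟩ := Set.mem_iUnion₂.mp this
    exact hb p ((Set.Finite.mem_toFinset _).mpr hp) hbp

lemma finZeroDiv_of_isReduced (A : Type u) [CommRing A] [_root_.IsReduced A]
    (hfin : (minimalPrimes A).Finite) : FinZeroDiv A := by
  classical
  have hzero : ∀ c : A, (∀ q ∈ minimalPrimes A, c ∈ q) → c = 0 := fun c hc => by
    refine IsNilpotent.eq_zero (mem_nilradical.mp ?_)
    change c ∈ Ideal.radical ⊥
    rw [← Ideal.sInf_minimalPrimes]
    exact (Submodule.mem_sInf).mpr hc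
  refine ⟨hfin.toFinset, fun p hp => ?_, fun b hb => mem_nonZeroDivisors_iff_right.mpr fun c hc => ?_⟩
  · rw [Set.Finite.mem_toFinset] at hp
    have hpp : p.IsPrime := hp.1.1
    obtain ⟨a, ha, hap⟩ : ∃ a, (∀ q ∈ minimalPrimes A, q ≠ p → a ∈ q) ∧ a ∉ p := by
      have hne : ∀ q ∈ hfin.toFinset.erase p, ∃ a, a ∈ q ∧ a ∉ p := fun q hq => by
        rw [Finset.mem_erase, Set.Finite.mem_toFinset] at hq
        exact SetLike.not_le_iff_exists.mp fun hle => hq.1 (le_antisymm hle (hp.2 hq.2.1 hle))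
      choose! g hg hg' using hne
      refine ⟨∏ q ∈ hfin.toFinset.erase p, g q, fun q hq hqp => ?_, fun h => ?_⟩
      · exact Ideal.mem_of_dvd _ (Finset.dvd_prod_of_mem g (Finset.mem_erase.mpr ⟨hqp, hfin.mem_toFinset.mpr hq⟩))
          (hg q (Finset.mem_erase.mpr ⟨hqp, hfin.mem_toFinset.mpr hq⟩))
      · obtain ⟨q, hq, hq'⟩ := hpp.prod_mem_iff.mp h
        exact hg' q hq hq'
    refine ⟨hpp, a, fun h0 => hap (h0 ▸ zero_mem _), fun s hs => ⟨1, hzero _ fun q hq => ?_⟩⟩
    rw [pow_one]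
    by_cases hqp : q = p
    · subst hqp; exact q.mul_mem_right _ hs
    · exact q.mul_mem_left _ (ha q hq hqp)
  · refine hzero c fun q hq => ?_
    exact (hq.1.1.mem_or_mem (show c * b ∈ q by rw [hc]; exact zero_mem _)).resolve_right
      (hb q (hfin.mem_toFinset.mpr hq))

/-- On an affine open with controlled zero divisors, a schematically dense open contains a regular basic open. -/
lemma exists_regular_basicOpen_le {U V W : X.Opens} (hd : SchDense U V) (hWU : W ≤ U) (hW : IsAffineOpen W)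
    (hA : FinZeroDiv Γ(X, W)) : ∃ b : Mero.regSub X W, X.basicOpen b.1 ≤ V := by
  classical
  obtain ⟨P, hP, hPb⟩ := hA
  let I : Ideal Γ(X, W) := Ideal.span {s | X.basicOpen s ≤ V}
  have hI : ∀ p ∈ P, ¬ I ≤ p := by
    intro p hp hle
    obtain ⟨hpp, a, ha0, ha⟩ := hP p hp
    let x : X := hW.fromSpec ⟨p, hpp⟩
    by_cases hxV : x ∈ V
    · have hxW : x ∈ W := hW.range_fromSpec.le ⟨_, rfl⟩
      obtain ⟨s, hsV, hxs⟩ := hW.exists_basicOpen_le ⟨x, hxV⟩ hxW
      have hmem : (⟨p, hpp⟩ : Spec Γ(X, W)) ∈ hW.fromSpec ⁻¹ᵁ X.basicOpen s := hxs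
      rw [hW.fromSpec_preimage_basicOpen] at hmem
      exact hmem (hle (Ideal.subset_span hsV))
    · refine ha0 (hd.eq_zero hWU a fun y hy hyV => ?_)
      have hq : hW.fromSpec (hW.primeIdealOf ⟨y, hy⟩) = y := hW.fromSpec_primeIdealOf ⟨y, hy⟩
      by_cases hsub : p ≤ (hW.primeIdealOf ⟨y, hy⟩).asIdeal
      · have hspec : (⟨p, hpp⟩ : PrimeSpectrum Γ(X, W)) ⤳ hW.primeIdealOf ⟨y, hy⟩ :=
          (PrimeSpectrum.le_iff_specializes _ _).mp hsub
        have := hspec.map hW.fromSpec.continuous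
        rw [hq] at this
        exact (hxV (this.mem_open V.2 hyV)).elim
      · obtain ⟨s, hs, hsq⟩ := SetLike.not_le_iff_exists.mp hsub
        obtain ⟨n, hn⟩ := ha s hs
        have hys : y ∈ X.basicOpen s := by
          have : hW.primeIdealOf ⟨y, hy⟩ ∈ hW.fromSpec ⁻¹ᵁ X.basicOpen s := by
            rw [hW.fromSpec_preimage_basicOpen]; exact hsq
          change hW.fromSpec _ ∈ X.basicOpen s at this
          rwa [hq] at this
        have hu : IsUnit (X.presheaf.germ W y hy (s ^ n)) := by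
          rw [map_pow]; exact ((X.mem_basicOpen s y hy).mp hys).pow n
        have := congrArg (X.presheaf.germ W y hy) hn
        rw [map_zero, map_mul] at this
        exact hu.mul_right_eq_zero.mp this
  obtain ⟨b, hbI, hb⟩ : ∃ b ∈ I, ∀ p ∈ P, b ∉ p := by
    by_contra hcon
    push Not at hcon
    have hsub : (I : Set Γ(X, W)) ⊆ ⋃ p ∈ P, (p : Set Γ(X, W)) := fun z hz => by
      obtain ⟨p, hp, hzp⟩ := hcon z hz
      exact Set.mem_iUnion₂.mpr ⟨p, hp, hzp⟩
    obtain ⟨p, hp, hle⟩ := (Ideal.subset_union_prime ⊥ ⊥ fun p hp _ _ => (hP p hp).1).mp hsub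
    exact hI p hp hle
  refine ⟨⟨b, by rw [regSub_eq_nonZeroDivisors hW]; exact hPb b hb⟩, fun y hy => ?_⟩
  have hyW : y ∈ W := X.basicOpen_le _ hy
  by_contra hyV
  have hle : I ≤ (IsLocalRing.maximalIdeal (X.presheaf.stalk y)).comap (X.presheaf.germ W y hyW).hom :=
    Ideal.span_le.mpr fun s hs => fun hu => hyV (hs ((X.mem_basicOpen s y hyW).mpr hu))
  exact hle hbI ((X.mem_basicOpen b y hyW).mp hy)

/-- The local extension. -/
lemma exists_extension_affine {U V W : X.Opens} (hd : SchDense U V) (hWU : W ≤ U) (hW : IsAffineOpen W)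
    (hA : FinZeroDiv Γ(X, W)) (g : Γ(X, V)) :
    ∃ k : Γ(Mero.kmod X, W), ∀ (y : W) (hy : y.1 ∈ V),
      k.1 y = algebraMap _ (Mero.KStalk X y.1) (X.presheaf.germ V y.1 hy g) := by
  obtain ⟨b, hbV⟩ := exists_regular_basicOpen_le hd hWU hW hA
  have := hW.isLocalization_basicOpen b.1
  obtain ⟨⟨a, _, n, rfl⟩, ha⟩ := IsLocalization.surj (Submonoid.powers b.1)
    (X.presheaf.map (homOfLE hbV).op g : Γ(X, X.basicOpen b.1))
  let bn : Mero.regSub X W := b ^ n
  have key : ∀ (y : W) (hy : y.1 ∈ V),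
      X.presheaf.germ V y.1 hy g * X.presheaf.germ W y.1 y.2 bn.1 = X.presheaf.germ W y.1 y.2 a := by
    intro y hy
    obtain ⟨A, hA', hyA, hAle⟩ := exists_isAffineOpen_mem_and_subset
      (show y.1 ∈ W ⊓ V from ⟨y.2, hy⟩)
    have hAW : A ≤ W := fun z hz => (hAle hz).1
    have hAV : A ≤ V := fun z hz => (hAle hz).2
    let bA : Mero.regSub X A := ⟨_, Mero.regSub_res (homOfLE hAW) b.2⟩
    have h0 : X.presheaf.map (homOfLE hAV).op g * X.presheaf.map (homOfLE hAW).op bn.1 -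
        X.presheaf.map (homOfLE hAW).op a = 0 := by
      refine eq_zero_of_res_basicOpen hA' bA _ ?_
      refine TopCat.Presheaf.section_ext X.sheaf _ _ _ fun z hz => ?_
      change X.presheaf.germ _ z hz _ = X.presheaf.germ _ z hz _
      have hzA : z ∈ A := X.basicOpen_le _ hz
      have hzb : z ∈ X.basicOpen b.1 := by
        have := (X.mem_basicOpen bA.1 z hzA).mp hz
        rw [TopCat.Presheaf.germ_res_apply] at this
        exact (X.mem_basicOpen b.1 z (hAW hzA)).mpr this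
      have e := congrArg (X.presheaf.germ (X.basicOpen b.1) z hzb) ha
      dsimp only at e
      rw [map_mul] at e
      change _ * X.presheaf.germ _ z hzb (X.presheaf.map (homOfLE (X.basicOpen_le b.1)).op (b.1 ^ n)) =
        X.presheaf.germ _ z hzb (X.presheaf.map (homOfLE (X.basicOpen_le b.1)).op a) at e
      simp only [TopCat.Presheaf.germ_res_apply] at e
      simp only [map_sub, map_mul, map_zero, TopCat.Presheaf.germ_res_apply, sub_eq_zero]
      exact e
    have := congrArg (X.presheaf.germ A y.1 hyA) h0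
    simp only [map_sub, map_mul, map_zero, TopCat.Presheaf.germ_res_apply, sub_eq_zero] at this
    exact this
  refine ⟨Mero.toK X W a * (toKUnit bn)⁻¹.1, fun y hy => ?_⟩
  refine (regUnit y.1 (Mero.regGerm y bn)).isUnit.mul_right_cancel ?_
  rw [Mero.kmod_mul_apply, toK_val, mul_assoc, regUnit_val]
  have : (toKUnit bn)⁻¹.1.1 y * algebraMap _ (Mero.KStalk X y.1) (Mero.regGerm y bn).1 = 1 := by
    rw [← toK_val bn.1 y]
    exact congrArg (fun q : Γ(Mero.kmod X, W) => q.1 y) (toKUnit bn).inv_mul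
  rw [this, mul_one, ← map_mul, key y hy]

lemma schDense_glue {U V : X.Opens} (hd : SchDense U V) (f : ∀ y : V, Mero.KStalk X y.1)
    (hloc : ∀ x : U, ∃ (W : X.Opens) (_ : x.1 ∈ W) (_ : W ≤ U) (k : Γ(Mero.kmod X, W)),
      ∀ (y : W) (hy : y.1 ∈ V), k.1 y = f ⟨y.1, hy⟩) :
    ∃ s : Γ(Mero.kmod X, U), ∀ (y : U) (hy : y.1 ∈ V), s.1 y = f ⟨y.1, hy⟩ := by
  choose W hxW hWU k hk using hloc
  have agree : ∀ (x x' : U) (z : X) (hz : z ∈ W x) (hz' : z ∈ W x'), (k x).1 ⟨z, hz⟩ = (k x').1 ⟨z, hz'⟩ := by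
    intro x x' z hz hz'
    have h0 : (Mero.kmod X).presheaf.map (homOfLE (inf_le_left : W x ⊓ W x' ≤ W x)).op (k x) -
        (Mero.kmod X).presheaf.map (homOfLE (inf_le_right : W x ⊓ W x' ≤ W x')).op (k x') = 0 :=
      hd.kzero (inf_le_left.trans (hWU x)) _ fun y hy => by
        change Mero.evalK X _ y (_ - _) = 0
        rw [map_sub]
        change (k x).1 ⟨y.1, y.2.1⟩ - (k x').1 ⟨y.1, y.2.2⟩ = 0
        rw [hk x _ hy, hk x' _ hy, sub_self]
    have := congrArg (Mero.evalK X (W x ⊓ W x') ⟨z, hz, hz'⟩) h0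
    rw [map_sub, map_zero, sub_eq_zero] at this
    exact this
  refine ⟨(⟨fun y => (k y).1 ⟨y.1, hxW y⟩, fun y => ?_⟩ : Γ(Mero.kmod X, U)),
    fun y hy => hk y ⟨y.1, hxW y⟩ hy⟩
  obtain ⟨N, hy, i, a, b, w⟩ := (k y).2 ⟨y.1, hxW y⟩
  exact ⟨N, hy, homOfLE (i.le.trans (hWU y)), a, b, fun z => (agree ⟨z.1, hWU y (i.le z.2)⟩ y z.1 (hxW _) (i.le z.2)).trans (w z)⟩

/-- The condition that every point has small affine neighbourhoods with controlled zero divisors. -/
def GoodAffines (X : Scheme.{u}) : Prop :=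
  ∀ (x : X) (U : X.Opens), x ∈ U → ∃ W : X.Opens, IsAffineOpen W ∧ x ∈ W ∧ W ≤ U ∧ FinZeroDiv Γ(X, W)

lemma minimalPrimes_finite_of_components {W : X.Opens} (hW : IsAffineOpen W)
    (hfin : {Z : Set X | Z ∈ irreducibleComponents X ∧ (Z ∩ (W : Set X)).Nonempty}.Finite) :
    (minimalPrimes Γ(X, W)).Finite := by
  let φ : {p : Ideal Γ(X, W) // p ∈ minimalPrimes Γ(X, W)} → X := fun p => hW.fromSpec ⟨p.1, p.2.1.1⟩
  have hmax : ∀ (p : {p : Ideal Γ(X, W) // p ∈ minimalPrimes Γ(X, W)}) (w : X), w ⤳ φ p → w = φ p := by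
    intro p w hw
    have hφW : φ p ∈ W := hW.range_fromSpec.le ⟨_, rfl⟩
    have hwW : w ∈ W := hw.mem_open W.2 hφW
    obtain ⟨q, rfl⟩ : ∃ q, hW.fromSpec q = w := ⟨_, hW.fromSpec_primeIdealOf ⟨w, hwW⟩⟩
    have h2 : q ⤳ (⟨p.1, p.2.1.1⟩ : PrimeSpectrum Γ(X, W)) :=
      hW.fromSpec.isOpenEmbedding.isInducing.specializes_iff.mp hw
    have hle := (PrimeSpectrum.le_iff_specializes _ _).mpr h2
    exact congrArg hW.fromSpec (PrimeSpectrum.ext (le_antisymm hle
      (p.2.2 ⟨q.isPrime, bot_le⟩ hle)))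
  have hcomp : ∀ p, closure ({φ p} : Set X) ∈ irreducibleComponents X := by
    intro p
    refine ⟨isIrreducible_singleton.closure, fun Z hZ hle => ?_⟩
    obtain ⟨η, hη⟩ := QuasiSober.sober hZ.closure isClosed_closure
    have hspec : η ⤳ φ p := hη.specializes (subset_closure (hle (subset_closure rfl)))
    have := hmax p η hspec
    subst this
    exact subset_closure.trans hη.def.ge
  have : Finite {p : Ideal Γ(X, W) // p ∈ minimalPrimes Γ(X, W)} := by
    have := hfin.to_subtype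
    refine Finite.of_injective (fun p => (⟨closure {φ p}, hcomp p, φ p, subset_closure rfl,
      hW.range_fromSpec.le ⟨_, rfl⟩⟩ : {Z : Set X | Z ∈ irreducibleComponents X ∧ (Z ∩ (W : Set X)).Nonempty})) ?_
    intro p q hpq
    have h1 : closure ({φ p} : Set X) = closure {φ q} := congrArg Subtype.val hpq
    have h2 : φ p = φ q := hmax q (φ p) (specializes_iff_mem_closure.mpr (h1 ▸ subset_closure rfl))
    have := hW.fromSpec.isOpenEmbedding.injective h2
    exact Subtype.ext (congrArg PrimeSpectrum.asIdeal this)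
  exact Set.toFinite _

theorem goodAffines_of (hX : IsLocallyNoetherian X ∨ (IsReduced X ∧ ∀ x : ↥X, ∃ W : X.Opens, x ∈ W ∧
    {Z : Set ↥X | Z ∈ irreducibleComponents ↥X ∧ (Z ∩ (W : Set ↥X)).Nonempty}.Finite)) : GoodAffines X := by
  intro x U hx
  rcases hX with hN | ⟨hR, hfin⟩
  · obtain ⟨W, hW, hxW, hle⟩ := exists_isAffineOpen_mem_and_subset hx
    have := IsLocallyNoetherian.component_noetherian (X := X) ⟨W, hW⟩
    exact ⟨W, hW, hxW, hle, finZeroDiv_of_isNoetherianRing _⟩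
  · obtain ⟨W₀, hx₀, hf⟩ := hfin x
    obtain ⟨W, hW, hxW, hle⟩ := exists_isAffineOpen_mem_and_subset (show x ∈ U ⊓ W₀ from ⟨hx, hx₀⟩)
    refine ⟨W, hW, hxW, fun y hy => (hle hy).1, finZeroDiv_of_isReduced _ (minimalPrimes_finite_of_components hW
      (hf.subset fun Z ⟨hZ, z, hz, hzW⟩ => ⟨hZ, z, hz, (hle hzW).2⟩))⟩

/-- A function on a schematically dense open extends to a meromorphic function. -/
theorem exists_extension (hX : GoodAffines X) {U V : X.Opens} (hd : SchDense U V) (g : Γ(X, V)) :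
    ∃ s : Γ(Mero.kmod X, U), ∀ (y : U) (hy : y.1 ∈ V),
      s.1 y = algebraMap _ (Mero.KStalk X y.1) (X.presheaf.germ V y.1 hy g) := by
  refine schDense_glue hd (fun y => algebraMap _ (Mero.KStalk X y.1) (X.presheaf.germ V y.1 y.2 g)) fun x => ?_
  obtain ⟨W, hW, hxW, hle, hA⟩ := hX x.1 U x.2
  obtain ⟨k, hk⟩ := exists_extension_affine hd hle hW hA g
  exact ⟨W, hxW, hle, k, hk⟩

end Groth.Agent.Mero90
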