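import Groth.Agent.Mero90.Frames
import Groth.Agent.Mero90.Extend

/-! Regular meromorphic sections of invertible modules and their divisors. -/

universe u

open CategoryTheory AlgebraicGeometry TopologicalSpace Opposite

namespace Groth.Agent.Mero90

open Var76.LineBundle

variable {X : Scheme.{u}}

/-- The element `m / 1` of `S_x⁻¹ F_x`. -/
noncomputable abbrev mone {F : X.Modules} {x : X} (m : F.presheaf.stalk x) : Mero.MStalk F x :=
  LocalizedModule.mk m 1

lemma mone_smul {F : X.Modules} {x : X} (c : X.presheaf.stalk x) (m : F.presheaf.stalk x) :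
    mone (c • m) = algebraMap _ (Mero.KStalk X x) c • mone m := by
  rw [← IsLocalization.mk'_one (M := Mero.regStalk X x) (Mero.KStalk X x) c, ← Localization.mk_eq_mk',
    LocalizedModule.mk_smul_mk, one_mul]

lemma mk'_smul_mone {F : X.Modules} {x : X} (c : X.presheaf.stalk x) (s : Mero.regStalk X x)
    (m : F.presheaf.stalk x) :
    IsLocalization.mk' (Mero.KStalk X x) c s • mone m = LocalizedModule.mk (c • m) s := by
  rw [← Localization.mk_eq_mk', LocalizedModule.mk_smul_mk, mul_one]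

/-- A generator of a free rank one stalk. -/
def IsGen {F : X.Modules} {x : X} (ε : F.presheaf.stalk x) : Prop :=
  Function.Bijective fun c : X.presheaf.stalk x => c • ε

lemma IsGen.exists_coord {F : X.Modules} {x : X} {ε : F.presheaf.stalk x} (h : IsGen ε)
    (t : Mero.MStalk F x) : ∃ q : Mero.KStalk X x, q • mone ε = t := by
  induction t using LocalizedModule.induction_on with
  | _ m s =>
    obtain ⟨c, rfl⟩ := h.2 m
    exact ⟨_, mk'_smul_mone c s ε⟩

lemma IsGen.eq_zero {F : X.Modules} {x : X} {ε : F.presheaf.stalk x} (h : IsGen ε)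
    {q : Mero.KStalk X x} (hq : q • mone ε = 0) : q = 0 := by
  obtain ⟨c, s, rfl⟩ := IsLocalization.exists_mk'_eq (Mero.regStalk X x) q
  rw [mk'_smul_mone, ← LocalizedModule.zero_mk s, LocalizedModule.mk_eq] at hq
  obtain ⟨u, hu⟩ := hq
  simp only [smul_zero, Submonoid.smul_def, smul_smul] at hu
  have h0 : u.1 * (s.1 * c) = 0 := h.1 (hu.trans (zero_smul _ ε).symm)
  rw [(mem_nonZeroDivisors_iff.mp (Mero.regStalk_le_nonZeroDivisors _ (u * s).2)).1 c
    ((mul_assoc u.1 s.1 c).trans h0), IsLocalization.mk'_zero]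

lemma IsGen.inj {F : X.Modules} {x : X} {ε : F.presheaf.stalk x} (h : IsGen ε)
    {q q' : Mero.KStalk X x} (hq : q • mone ε = q' • mone ε) : q = q' :=
  sub_eq_zero.mp (h.eq_zero (by rw [sub_smul, hq, sub_self]))

lemma isGen_germ {L : X.Modules} {U : X.Opens} {e : Γ(L, U)} (he : IsFrame L U e) (y : U) :
    IsGen (L.presheaf.germ U y.1 y.2 e) := frame_germ_bijective he y

lemma isGen_span {L : X.Modules} {U : X.Opens} {e : Γ(L, U)} (he : IsFrame L U e) (y : U)
    {ε : L.presheaf.stalk y.1} (hε : Submodule.span (X.presheaf.stalk y.1) {ε} = ⊤) :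
    ∃ v : (X.presheaf.stalk y.1)ˣ, ε = v.1 • L.presheaf.germ U y.1 y.2 e := by
  obtain ⟨a, ha⟩ := (isGen_germ he y).2 ε
  obtain ⟨b, hb⟩ := Submodule.mem_span_singleton.mp (hε ▸ trivial :
    L.presheaf.germ U y.1 y.2 e ∈ Submodule.span (X.presheaf.stalk y.1) {ε})
  refine ⟨Units.mkOfMulEqOne a b ((isGen_germ he y).1 ?_), ha.symm⟩
  dsimp only at ha ⊢
  rw [one_smul, mul_comm, mul_smul, ha, hb]

lemma IsGen.span_eq_top {F : X.Modules} {x : X} {ε : F.presheaf.stalk x} (h : IsGen ε) :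
    Submodule.span (X.presheaf.stalk x) {ε} = ⊤ :=
  eq_top_iff.mpr fun m _ => Submodule.mem_span_singleton.mpr (h.2 m)

/-- The coordinate of a meromorphic section in a frame. -/
theorem exists_coord {L : X.Modules} {U : X.Opens} {e : Γ(L, U)} (he : IsFrame L U e)
    (t : ∀ y : U, Mero.MStalk L y.1) (ht : (Mero.mLoc L).pred t) :
    ∃ q : Γ(Mero.kmod X, U), ∀ y : U, q.1 y • mone (L.presheaf.germ U y.1 y.2 e) = t y := by
  choose q hq using fun y : U => (isGen_germ he y).exists_coord (t y)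
  refine ⟨⟨q, fun y => ?_⟩, hq⟩
  obtain ⟨V, hy, i, m, b, w⟩ := ht y
  obtain ⟨c, hc⟩ := (he V i.le).2 m
  refine ⟨V, hy, i, c, b, fun z => (isGen_germ he ⟨z.1, i.le z.2⟩).inj ?_⟩
  refine (hq _).trans ((w z).trans ?_)
  rw [mk_eq_mk', mk'_smul_mone]
  refine Mero.mk_congr ?_ rfl
  rw [← hc, Mero.germ_smul, TopCat.Presheaf.germ_res_apply]

/-- In a frame a regular meromorphic section is a unit multiple. -/
theorem exists_unit_coord {L : X.Modules} (s : Γ(Mero.merMod L, ⊤)) (hs : Mero.IsRegularMero L s)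
    {U : X.Opens} {e : Γ(L, U)} (he : IsFrame L U e) :
    ∃ q : (Γ(Mero.kmod X, U))ˣ, ∀ y : U,
      q.1.1 y • mone (L.presheaf.germ U y.1 y.2 e) = s.1 ⟨y.1, trivial⟩ := by
  obtain ⟨q, hq⟩ := exists_coord he _ ((Mero.mLoc L).res (homOfLE (le_top : U ≤ ⊤)) s.1 s.2)
  have hu : IsUnit q := isUnit_of_locally q fun y c hc => by
    refine Mero.algebraMap_KStalk_injective y.1 ((hs y.1 _ ?_).trans (map_zero _).symm)
    rw [show s.1 ⟨y.1, trivial⟩ = _ from (hq y).symm, smul_smul, hc, zero_smul]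
  exact ⟨hu.unit, hq⟩

theorem isRegularMero_of_coords {L : X.Modules} (s : Γ(Mero.merMod L, ⊤))
    (h : ∀ x : X, ∃ (ε : L.presheaf.stalk x) (g : (Mero.KStalk X x)ˣ), IsGen ε ∧
      s.1 ⟨x, trivial⟩ = (g : Mero.KStalk X x) • mone ε) : Mero.IsRegularMero L s := fun x q hq => by
  obtain ⟨ε, g, hε, hg⟩ := h x
  rw [hg, smul_smul] at hq
  exact g.mul_left_eq_zero.mp (hε.eq_zero hq)

theorem mk_eq_mk_of_gen {L : X.Modules} {U : X.Opens} {e : Γ(L, U)} (he : IsFrame L U e) (y : U)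
    {ε : L.presheaf.stalk y.1} (hε : Submodule.span (X.presheaf.stalk y.1) {ε} = ⊤)
    {g g' : (Mero.KStalk X y.1)ˣ} {t : Mero.MStalk L y.1}
    (h : t = (g : Mero.KStalk X y.1) • mone (L.presheaf.germ U y.1 y.2 e))
    (h' : t = (g' : Mero.KStalk X y.1) • mone ε) :
    (QuotientGroup.mk g : Mero.Germ X y.1) = QuotientGroup.mk g' := by
  obtain ⟨v, rfl⟩ := isGen_span he y hε
  rw [mone_smul, smul_smul] at h'
  have e1 := (isGen_germ he y).inj (h.symm.trans h')
  have e2 : g = g' * Units.map (algebraMap _ (Mero.KStalk X y.1)).toMonoidHom v := Units.ext e1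
  rw [e2, QuotientGroup.mk_mul_of_mem]
  exact ⟨v, rfl⟩

/-- Every regular meromorphic section of an invertible module has a divisor. -/
theorem exists_isDivOfMero {L : X.Modules} (hL : PicF.IsInvertible L) (s : Γ(Mero.merMod L, ⊤))
    (hs : Mero.IsRegularMero L s) : ∃ D : Mero.Divisor X, Mero.IsDivOfMero L s D := by
  choose U hxU e he using fun x => exists_frame' hL x
  choose q hq using fun x => exists_unit_coord s hs (he x)
  let D : ∀ x : X, Mero.Germ X x := fun x => Mero.germOf (q x) ⟨x, hxU x⟩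
  have key : ∀ (x : X) (y : U x), D y.1 = Mero.germOf (q x) y := fun x y =>
    mk_eq_mk_of_gen (he y.1) ⟨y.1, hxU y.1⟩ (isGen_germ (he x) y).span_eq_top
      (hq y.1 ⟨y.1, hxU y.1⟩).symm (hq x y).symm
  refine ⟨⟨D, fun x => ⟨U x, hxU x, q x, key x⟩⟩, fun x ε g hε hg => ?_⟩
  exact mk_eq_mk_of_gen (he x) ⟨x, hxU x⟩ hε (hq x ⟨x, hxU x⟩).symm hg

/-- The local equation of the divisor of a meromorphic section. -/
theorem exists_equation {L : X.Modules} (s : Γ(Mero.merMod L, ⊤)) (hs : Mero.IsRegularMero L s)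
    (D : Mero.Divisor X) (hD : Mero.IsDivOfMero L s D) {U : X.Opens} {e : Γ(L, U)} (he : IsFrame L U e) :
    ∃ q : (Γ(Mero.kmod X, U))ˣ, (∀ y : U, q.1.1 y • mone (L.presheaf.germ U y.1 y.2 e) = s.1 ⟨y.1, trivial⟩) ∧
      ∀ y : U, D.1 y.1 = Mero.germOf q y := by
  obtain ⟨q, hq⟩ := exists_unit_coord s hs he
  exact ⟨q, hq, fun y => hD y.1 _ _ (isGen_germ he y).span_eq_top (hq y).symm⟩

/-- Regular sections of invertible modules separate coefficients. -/
lemma smul_inj_of_regular {L : X.Modules} (s : Γ(Mero.merMod L, ⊤)) (hs : Mero.IsRegularMero L s) (x : X)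
    {t t' : Mero.KStalk X x} (h : t • s.1 ⟨x, trivial⟩ = t' • s.1 ⟨x, trivial⟩) : t = t' :=
  sub_eq_zero.mp (hs x _ (by rw [sub_smul, h, sub_self]))

/-- `L ≅ O(D)` for the divisor `D` of a regular meromorphic section `s`, with `s ↦ 1`. -/
theorem exists_iso_divMod {L : X.Modules} (hL : PicF.IsInvertible L) (s : Γ(Mero.merMod L, ⊤))
    (hs : Mero.IsRegularMero L s) (D : Mero.Divisor X) (hD : Mero.IsDivOfMero L s D) :
    ∃ φ : L ≅ Mero.divMod D, ∀ (V : X.Opens) (m : Γ(L, V)) (y : V),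
      (φ.hom.app V m).1 y • s.1 ⟨y.1, trivial⟩ = mone (L.presheaf.germ V y.1 y.2 m) := by
  have ex : ∀ (V : X.Opens) (m : Γ(L, V)), ∃ t : Γ(Mero.divMod D, V),
      ∀ y : V, t.1 y • s.1 ⟨y.1, trivial⟩ = mone (L.presheaf.germ V y.1 y.2 m) := by
    intro V m
    choose U hxU e he using fun y : V => exists_frame' hL y.1
    choose q hq hqD using fun y : V => exists_equation s hs D hD (he y)
    choose c hc using fun y : V => (he y (V ⊓ U y) inf_le_right).2 (res L inf_le_left m)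
    let t : ∀ y : V, Mero.KStalk X y.1 := fun y =>
      algebraMap _ _ (X.presheaf.germ (V ⊓ U y) y.1 ⟨y.2, hxU y⟩ (c y)) * (q y)⁻¹.1.1 ⟨y.1, hxU y⟩
    have hloc : ∀ (y : V) (z : V) (hz : z.1 ∈ U y),
        (algebraMap _ _ (X.presheaf.germ (V ⊓ U y) z.1 ⟨z.2, hz⟩ (c y)) * (q y)⁻¹.1.1 ⟨z.1, hz⟩ :
          Mero.KStalk X z.1) • s.1 ⟨z.1, trivial⟩ = mone (L.presheaf.germ V z.1 z.2 m) := by
      intro y z hz
      rw [show s.1 ⟨z.1, trivial⟩ = _ from (hq y ⟨z.1, hz⟩).symm, smul_smul, mul_assoc,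
        ← Mero.kmod_mul_apply, Units.inv_mul, Mero.kmod_one_apply, mul_one, ← mone_smul]
      have := congrArg (L.presheaf.germ (V ⊓ U y) z.1 ⟨z.2, hz⟩) (hc y)
      rw [Mero.germ_smul, TopCat.Presheaf.germ_res_apply, TopCat.Presheaf.germ_res_apply] at this
      rw [this]
    have ht : ∀ y, t y • s.1 ⟨y.1, trivial⟩ = mone (L.presheaf.germ V y.1 y.2 m) := fun y => hloc y y (hxU y)
    refine ⟨⟨t, fun y => ?_, fun y => ?_⟩, ht⟩
    · obtain ⟨N, hy, i, a, b, w⟩ := (Mero.toK X (V ⊓ U y) (c y) *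
        (Mero.kmod X).presheaf.map (homOfLE inf_le_right).op (q y)⁻¹.1).2 ⟨y.1, y.2, hxU y⟩
      refine ⟨N, hy, homOfLE (i.le.trans inf_le_left), a, b, fun z => Eq.trans ?_ (w z)⟩
      refine smul_inj_of_regular s hs z.1 ((ht _).trans ?_)
      change _ = ((Mero.toK X (V ⊓ U y) (c y)).1 ⟨z.1, i.le z.2⟩ * (q y)⁻¹.1.1 ⟨z.1, (i.le z.2).2⟩) • _
      rw [toK_val]
      exact (hloc y ⟨z.1, (i.le z.2).1⟩ (i.le z.2).2).symm
    · refine (germOf_eq_iff D (q y) (hxU y) (hqD y ⟨y.1, hxU y⟩) _).mpr ⟨X.presheaf.germ (V ⊓ U y) y.1 ⟨y.2, hxU y⟩ (c y), ?_⟩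
      change _ = t y * _
      simp only [t, mul_assoc, ← Mero.kmod_mul_apply, Units.inv_mul, Mero.kmod_one_apply, mul_one]
  choose T hT using ex
  have uniq : ∀ (V : X.Opens) (m : Γ(L, V)) (t : Γ(Mero.divMod D, V)),
      (∀ y : V, t.1 y • s.1 ⟨y.1, trivial⟩ = mone (L.presheaf.germ V y.1 y.2 m)) → t = T V m :=
    fun V m t ht => Subtype.ext (funext fun y => smul_inj_of_regular s hs y.1 ((ht y).trans (hT V m y).symm))
  let φ : L ⟶ Mero.divMod D := ⟨PresheafOfModules.homMk (M₁ := L.val) (M₂ := (Mero.divMod D).val)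
    { app := fun V => AddCommGrpCat.ofHom
        { toFun := fun m => T V.unop m
          map_zero' := (uniq V.unop (0 : Γ(L, V.unop)) 0 fun y => by
            change (0 : Mero.KStalk X y.1) • _ = _
            rw [zero_smul, map_zero, mone, LocalizedModule.zero_mk]).symm
          map_add' := fun (m n : Γ(L, V.unop)) => (uniq V.unop (m + n) _ fun y => by
            change ((T V.unop m).1 y + (T V.unop n).1 y) • _ = _
            rw [add_smul, hT, hT, map_add, mone, mone, LocalizedModule.mk_add_mk, one_smul, one_smul, one_mul]).symm }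
      naturality := fun {V W} i => by
        ext m
        refine (uniq W.unop (L.presheaf.map i m) _ fun y => ?_).symm
        change (T V.unop m).1 ⟨y.1, _⟩ • _ = _
        refine (hT V.unop m ⟨y.1, i.unop.le y.2⟩).trans ?_
        exact congrArg mone (TopCat.Presheaf.germ_res_apply' L.presheaf i y.1 y.2 m).symm }
    (fun V (r : Γ(X, V.unop)) (m : Γ(L, V.unop)) => (uniq V.unop (r • m) _ fun y => by
      change (X.presheaf.germ V.unop y.1 y.2 r • (T V.unop m).1 y) • _ = _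
      rw [smul_assoc, hT, Mero.germ_smul, mone_smul]
      exact (algebraMap_smul (Mero.KStalk X y.1) (X.presheaf.germ V.unop y.1 y.2 r) _).symm).symm)⟩
  have hinj : ∀ V, Function.Injective (φ.app V) := by
    intro V m n hmn
    apply TopCat.Presheaf.section_ext (⟨L.presheaf, L.isSheaf⟩ : TopCat.Sheaf Ab X) V
    intro y hy
    obtain ⟨U, hyU, e, he⟩ := exists_frame' hL y
    have h1 := congrArg (fun t : Γ(Mero.divMod D, V) => t.1 ⟨y, hy⟩ • s.1 ⟨y, trivial⟩) hmn
    change (T V m).1 ⟨y, hy⟩ • _ = (T V n).1 ⟨y, hy⟩ • _ at h1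
    rw [hT, hT] at h1
    obtain ⟨a, ha⟩ := (isGen_germ he ⟨y, hyU⟩).2 (L.presheaf.germ V y hy m)
    obtain ⟨b, hb⟩ := (isGen_germ he ⟨y, hyU⟩).2 (L.presheaf.germ V y hy n)
    dsimp only at ha hb
    rw [← ha, ← hb, mone_smul, mone_smul] at h1
    change L.presheaf.germ V y hy m = L.presheaf.germ V y hy n
    rw [← ha, ← hb, Mero.algebraMap_KStalk_injective y ((isGen_germ he ⟨y, hyU⟩).inj h1)]
  have : IsIso φ := by
    refine Scheme.Modules.Hom.isIso_iff_isIso_app.2 fun V => ?_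
    rw [ConcreteCategory.isIso_iff_bijective]
    refine ⟨hinj V, fun t => ?_⟩
    choose U hxU e he using fun y : V => exists_frame' hL y.1
    choose q hq hqD using fun y : V => exists_equation s hs D hD (he y)
    choose c hc using fun y : V => exists_toK_eq
      ((Mero.divModι D).app (V ⊓ U y) (res (Mero.divMod D) inf_le_left t) *
        (Mero.kmod X).presheaf.map (homOfLE inf_le_right).op (q y).1)
      fun (z : (V ⊓ U y : X.Opens)) => (germOf_eq_iff D (q y) z.2.2 (hqD y ⟨z.1, z.2.2⟩) _).mp (t.2.2 ⟨z.1, z.2.1⟩)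
    let W := fun y : V => V ⊓ U y
    let m : ∀ y : V, Γ(L, W y) := fun y => c y • res L inf_le_right (e y)
    have hm : ∀ y, φ.app (W y) (m y) = res (Mero.divMod D) inf_le_left t := fun y =>
      (uniq (W y) _ _ fun z => by
        rw [Mero.germ_smul, mone_smul, TopCat.Presheaf.germ_res_apply]
        have h := congrArg (fun k : Γ(Mero.kmod X, W y) => k.1 z) (hc y)
        dsimp only at h
        rw [toK_val] at h
        rw [h]
        change t.1 ⟨z.1, z.2.1⟩ • s.1 ⟨z.1, trivial⟩ = (t.1 ⟨z.1, z.2.1⟩ * (q y).1.1 ⟨z.1, z.2.2⟩) • _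
        rw [mul_smul, hq y ⟨z.1, z.2.2⟩]).symm
    obtain ⟨g, hg, -⟩ := TopCat.Sheaf.existsUnique_gluing' (⟨L.presheaf, L.isSheaf⟩ : TopCat.Sheaf Ab X)
      W V (fun y => homOfLE inf_le_left)
      (fun y hy => Opens.mem_iSup.2 ⟨⟨y, hy⟩, hy, hxU ⟨y, hy⟩⟩) m (fun y y' => by
        apply hinj (W y ⊓ W y')
        change φ.app _ (res L inf_le_left (m y)) = φ.app _ (res L inf_le_right (m y'))
        rw [app_res, app_res, hm, hm, res_res, res_res])
    refine ⟨g, Subtype.ext (funext fun z => ?_)⟩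
    have h := congrArg (fun k : Γ(Mero.divMod D, W z) => k.1 ⟨z.1, z.2, hxU z⟩) (hm z)
    dsimp only at h
    rw [← hg z, app_res] at h
    exact h
  exact ⟨asIso φ, fun V m y => hT V m y⟩

end Groth.Agent.Mero90
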