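import Groth.Prelude.Def_CAlg
import Mathlib.RingTheory.Regular.RegularSequence
import Mathlib.RingTheory.Noetherian.Basic

/-! Elementary depth zero and depth one criteria for a local ring. -/

universe u

namespace Groth.Agent.Mero90

open RingTheory.Sequence IsLocalRing

variable {R : Type u} [CommRing R] [IsLocalRing R]

lemma depth_self_eq : LocCoh.depth R R =
    ⨆ (rs : List R) (_ : IsWeaklyRegular R rs ∧ ∀ r ∈ rs, r ∈ maximalIdeal R), (rs.length : ℕ∞) := by
  rw [LocCoh.depth, LocCoh.idealDepth, if_neg]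
  simpa [Ideal.mul_top, smul_eq_mul] using (maximalIdeal.isMaximal R).ne_top

omit [IsLocalRing R] in
lemma smulRegular_iff_mem_nonZeroDivisors {r : R} :
    IsSMulRegular R r ↔ r ∈ nonZeroDivisors R := by
  rw [mem_nonZeroDivisors_iff_right]
  constructor
  · exact fun h x hx => h (show r • x = r • 0 by simp [mul_comm r x, hx])
  · intro h x y hxy
    rw [← sub_eq_zero]
    exact h _ (by simp only [smul_eq_mul] at hxy; linear_combination hxy)

lemma depth_eq_zero_iff : LocCoh.depth R R = 0 ↔
    ∀ r ∈ maximalIdeal R, r ∉ nonZeroDivisors R := by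
  constructor
  · intro h r hr hreg
    have h1 : ((([r] : List R).length : ℕ) : ℕ∞) ≤ LocCoh.depth R R := by
      rw [depth_self_eq]
      exact le_iSup₂_of_le [r] ⟨(isWeaklyRegular_cons_iff _ _ _).mpr
        ⟨smulRegular_iff_mem_nonZeroDivisors.mpr hreg, .nil _ _⟩, by simpa using hr⟩ le_rfl
    rw [h] at h1
    simp at h1
  · intro h
    rw [depth_self_eq, ← nonpos_iff_eq_zero]
    refine iSup₂_le fun rs hrs => ?_
    match rs, hrs with
    | [], _ => simp
    | r :: l, ⟨hw, hm⟩ =>
      exact absurd (smulRegular_iff_mem_nonZeroDivisors.mp ((isWeaklyRegular_cons_iff _ _ _).mp hw).1)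
        (h r (hm r (by simp)))

/-- If `b` is regular in the maximal ideal and `m` is associated to `R/bR` the depth is one. -/
lemma depth_eq_one {b : R} (hbm : b ∈ maximalIdeal R) (hb : b ∈ nonZeroDivisors R) {x : R}
    (hx : ¬ b ∣ x) (hmx : ∀ t ∈ maximalIdeal R, b ∣ t * x) : LocCoh.depth R R = 1 := by
  refine le_antisymm ?_ ?_
  · rw [depth_self_eq]
    refine iSup₂_le fun rs hrs => ?_
    match rs, hrs with
    | [], _ => simp
    | [_], _ => simp
    | a :: c :: l, ⟨hw, hm⟩ =>
      exfalso
      obtain ⟨ha', hcl⟩ := (isWeaklyRegular_cons_iff _ _ _).mp hw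
      have ha := smulRegular_iff_mem_nonZeroDivisors.mp ha'
      have hc := ((isWeaklyRegular_cons_iff _ _ _).mp hcl).1
      obtain ⟨y, hy⟩ := hmx a (hm a (by simp))
      obtain ⟨w, hw'⟩ := hmx c (hm c (by simp))
      have hya : ¬ a ∣ y := by
        rintro ⟨z, rfl⟩
        refine hx ⟨z, ?_⟩
        refine mul_cancel_left_mem_nonZeroDivisors ha |>.mp ?_
        linear_combination hy
      have hcy : c * y = a * w := by
        refine mul_cancel_left_mem_nonZeroDivisors hb |>.mp ?_
        linear_combination (-c) * hy + a * hw'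
      apply hya
      have hzero : (Submodule.Quotient.mk y : QuotSMulTop a R) = 0 := by
        refine hc ?_
        simp only [smul_zero]
        rw [← Submodule.Quotient.mk_smul, Submodule.Quotient.mk_eq_zero]
        exact ⟨w, trivial, by simp [hcy]⟩
      obtain ⟨z, -, hz⟩ := (Submodule.Quotient.mk_eq_zero _).mp hzero
      exact ⟨z, by simpa using hz.symm⟩
  · rw [Order.one_le_iff_pos, pos_iff_ne_zero]
    exact fun h => depth_eq_zero_iff.mp h b hbm hb

/-- A divisibility that fails only at the maximal ideal forces depth one. -/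
lemma depth_eq_one_of_punctured [IsNoetherianRing R] {a b : R} (hb : b ∈ nonZeroDivisors R)
    (hab : ¬ b ∣ a) (h : ∀ q : Ideal R, q.IsPrime → q ≠ maximalIdeal R → ∃ s ∉ q, b ∣ s * a) :
    LocCoh.depth R R = 1 := by
  have hbm : b ∈ maximalIdeal R :=
    (mem_maximalIdeal b).mpr fun hu => hab (hu.dvd)
  let J : Ideal R := Submodule.comap (LinearMap.toSpanSingleton R R a) (Ideal.span {b})
  have memJ : ∀ t, t ∈ J ↔ b ∣ t * a := fun t => by
    simp [J, Ideal.mem_span_singleton]
  have hrad : maximalIdeal R ≤ J.radical := by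
    rw [Ideal.radical_eq_sInf]
    refine le_sInf fun q hq => ?_
    by_contra hne
    obtain ⟨s, hs, hsa⟩ := h q hq.2 (fun e => hne e.ge)
    exact hs (hq.1 ((memJ s).mpr hsa))
  obtain ⟨n, hn⟩ := Ideal.exists_pow_le_of_le_radical_of_fg hrad (IsNoetherian.noetherian _)
  have hex : ∃ n, ∀ t ∈ maximalIdeal R ^ n, b ∣ t * a := ⟨n, fun t ht => (memJ t).mp (hn ht)⟩
  classical
  have hpos : Nat.find hex ≠ 0 := fun h0 => by
    have := Nat.find_spec hex 1 (by rw [h0, pow_zero, Ideal.one_eq_top]; trivial)
    rw [one_mul] at this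
    exact hab this
  obtain ⟨k, hk⟩ := Nat.exists_eq_succ_of_ne_zero hpos
  have := Nat.find_min hex (m := k) (by omega)
  push Not at this
  obtain ⟨t, ht, hbt⟩ := this
  refine depth_eq_one hbm hb hbt fun s hs => ?_
  have hspec := Nat.find_spec hex (s * t) (by
    rw [hk, Nat.succ_eq_add_one, pow_succ']; exact Ideal.mul_mem_mul hs ht)
  simpa [mul_assoc] using hspec

end Groth.Agent.Mero90
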