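import Groth.Agent.Mero90.Basic
import Groth.Agent.Mero90.Depth
import Groth.Agent.Cyc90.Gen
import Mathlib.AlgebraicGeometry.Noetherian
import Mathlib.RingTheory.Ideal.Height
import Mathlib.RingTheory.KrullDimension.Basic

/-! Divisors: effectivity and triviality along generizations, depth one. -/

universe u

open CategoryTheory AlgebraicGeometry TopologicalSpace Opposite IsLocalRing

namespace Groth.Agent.Mero90

variable {X : Scheme.{u}}

/-- A factor of a germ of a regular section is a germ of a regular section. -/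
lemma mem_regStalk_of_mul {x : X} {b c : X.presheaf.stalk x} {a : Mero.regStalk X x}
    (h : b * c = a.1) : c ∈ Mero.regStalk X x := by
  obtain ⟨U, hU, b', rfl⟩ := X.presheaf.exists_germ_eq b
  obtain ⟨V, hV, c', rfl⟩ := X.presheaf.exists_germ_eq c
  obtain ⟨_, W, hW, a', ha', rfl⟩ := a
  have hUV : x ∈ U ⊓ V := ⟨hU, hV⟩
  have e : X.presheaf.germ (U ⊓ V) x hUV (X.presheaf.map (homOfLE inf_le_left).op b' *
      X.presheaf.map (homOfLE inf_le_right).op c') = X.presheaf.germ W x hW a' := by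
    rw [map_mul, TopCat.Presheaf.germ_res_apply, TopCat.Presheaf.germ_res_apply]; exact h
  obtain ⟨O, hO, i, j, heq⟩ := X.presheaf.germ_eq x _ _ _ _ e
  refine ⟨O, hO, X.presheaf.map i.op (X.presheaf.map (homOfLE inf_le_right).op c'), fun y => ?_,
    by rw [TopCat.Presheaf.germ_res_apply, TopCat.Presheaf.germ_res_apply]⟩
  have := congrArg (X.presheaf.germ O y.1 y.2) heq
  rw [TopCat.Presheaf.germ_res_apply, TopCat.Presheaf.germ_res_apply, map_mul] at this
  have hn := ha' ⟨y.1, j.le y.2⟩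
  rw [← this] at hn
  rw [TopCat.Presheaf.germ_res_apply]
  exact (mul_mem_nonZeroDivisors.mp hn).2

/-- Effective at `x` iff the denominator divides the numerator. -/
lemma effAt_iff_dvd {x : X} (D : Mero.Divisor X) (a b : Mero.regStalk X x) (h : D.1 x = cls x a b) :
    Mero.IsEffectiveAt D x ↔ b.1 ∣ a.1 := by
  rw [effAt_iff D a b h]
  refine ⟨fun ⟨c, u, hu⟩ => ⟨c.1 * u, by rw [← mul_assoc, hu]⟩, fun ⟨c, hc⟩ => ?_⟩
  exact ⟨⟨c, mem_regStalk_of_mul hc.symm⟩, 1, by rw [Units.val_one, mul_one, ← hc]⟩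

lemma germ_eq_one_iff_dvd {x : X} (D : Mero.Divisor X) (a b : Mero.regStalk X x)
    (h : D.1 x = cls x a b) : D.1 x = 1 ↔ b.1 ∣ a.1 ∧ a.1 ∣ b.1 := by
  rw [h, cls_eq_one_iff]
  refine ⟨fun hab => ⟨hab.dvd, hab.symm.dvd⟩, ?_⟩
  rintro ⟨⟨c, hc⟩, ⟨d, hd⟩⟩
  have hb := Mero.regStalk_le_nonZeroDivisors _ b.2
  have : c * d = 1 := (mul_cancel_left_mem_nonZeroDivisors hb).mp (by
    rw [← mul_assoc, ← hc, ← hd, mul_one])
  exact ⟨⟨c, d, this, by rw [mul_comm]; exact this⟩, hc.symm⟩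

lemma effective_and_inv_iff (D : Mero.Divisor X) (x : X) :
    D.1 x = 1 ↔ Mero.IsEffectiveAt D x ∧ Mero.IsEffectiveAt D⁻¹ x := by
  obtain ⟨a, b, h⟩ := exists_cls_germ D x
  rw [germ_eq_one_iff_dvd D a b h, effAt_iff_dvd D a b h, effAt_iff_dvd D⁻¹ b a]
  change (D.1 x)⁻¹ = _
  rw [h, cls_inv]

/-- At a point where `D` is not effective but it is at all proper generizations, the depth is one. -/
theorem depth_eq_one_of_not_effective [IsLocallyNoetherian X] (D : Mero.Divisor X) (x : X)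
    (hx : ¬ Mero.IsEffectiveAt D x) (hgen : ∀ z, z ⤳ x → z ≠ x → Mero.IsEffectiveAt D z) :
    LocCoh.depth (X.presheaf.stalk x) (X.presheaf.stalk x) = 1 := by
  obtain ⟨V, hxV, a, b, h⟩ := exists_cls D x
  rw [effAt_iff_dvd D _ _ (h ⟨x, hxV⟩)] at hx
  refine depth_eq_one_of_punctured (b.2 ⟨x, hxV⟩) hx fun q hq hne => ?_
  let z := (X.fromSpecStalk x).base ⟨q, hq⟩
  have hzx : z ⤳ x := Cyc90.fromSpecStalk_specializes _
  have hzne : z ≠ x := fun e => hne (by
    have hp := Cyc90.genPrime_fromSpecStalk (X := X) (x := x) ⟨q, hq⟩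
    rw [(Cyc90.genPrime_eq_iff hzx (specializes_refl x)).mpr e, Cyc90.genPrime_refl] at hp
    exact (congrArg PrimeSpectrum.asIdeal hp).symm)
  have hzV : z ∈ V := hzx.mem_open V.isOpen hxV
  have hdvd := hgen z hzx hzne
  rw [effAt_iff_dvd D _ _ (h ⟨z, hzV⟩)] at hdvd
  obtain ⟨c, hc⟩ := hdvd
  let alg := (X.presheaf.stalkSpecializes hzx).hom.toAlgebra
  have hloc := Cyc90.isLocalization_genPrime hzx
  have hq' : (Cyc90.genPrime hzx).asIdeal = q :=
    congrArg PrimeSpectrum.asIdeal (Cyc90.genPrime_fromSpecStalk (X := X) (x := x) ⟨q, hq⟩)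
  obtain ⟨⟨c', s⟩, hs⟩ := IsLocalization.surj (Cyc90.genPrime hzx).asIdeal.primeCompl c
  have sp : ∀ f : Γ(X, V), algebraMap (X.presheaf.stalk x) (X.presheaf.stalk z)
      (X.presheaf.germ V x hxV f) = X.presheaf.germ V z hzV f := fun f =>
    TopCat.Presheaf.germ_stalkSpecializes_apply X.presheaf hxV hzx f
  have : algebraMap _ (X.presheaf.stalk z) (s.1 * X.presheaf.germ V x hxV a.1) =
      algebraMap (X.presheaf.stalk x) (X.presheaf.stalk z) (X.presheaf.germ V x hxV b.1 * c') := by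
    rw [map_mul, map_mul, sp, sp]
    have hc' : X.presheaf.germ V z hzV a.1 = X.presheaf.germ V z hzV b.1 * c := hc
    have hs' : c * algebraMap (X.presheaf.stalk x) (X.presheaf.stalk z) s.1 =
        algebraMap (X.presheaf.stalk x) (X.presheaf.stalk z) c' := hs
    linear_combination (algebraMap (X.presheaf.stalk x) (X.presheaf.stalk z) s.1) * hc' +
      (X.presheaf.germ V z hzV b.1) * hs'
  obtain ⟨e, he⟩ := IsLocalization.exists_of_eq (M := (Cyc90.genPrime hzx).asIdeal.primeCompl) this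
  refine ⟨e.1 * s.1, ?_, e.1 * c', ?_⟩
  · rw [← hq']; exact (Cyc90.genPrime hzx).asIdeal.primeCompl.mul_mem e.2 s.2
  · rw [mul_assoc, he]; ring

/-- A generization minimal for a property. -/
lemma exists_minimal_generization [IsLocallyNoetherian X] (P : X → Prop) (x : X) (hx : P x) :
    ∃ z, z ⤳ x ∧ P z ∧ ∀ w, w ⤳ z → w ≠ z → ¬ P w := by
  classical
  have hne : ∃ n, ∃ q : PrimeSpectrum (X.presheaf.stalk x),
      P ((X.fromSpecStalk x).base q) ∧ q.asIdeal.height = (n : ℕ) := by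
    have hfin : (closedPoint (X.presheaf.stalk x)).asIdeal.height ≠ ⊤ :=
      Ideal.height_ne_top (closedPoint (X.presheaf.stalk x)).isPrime.ne_top
    exact ⟨_, closedPoint _, by rw [Scheme.fromSpecStalk_closedPoint]; exact hx,
      (ENat.natCast_toNat hfin).symm⟩
  obtain ⟨q, hPq, hq⟩ := Nat.find_spec hne
  refine ⟨_, Cyc90.fromSpecStalk_specializes q, hPq, fun w hw hwne hPw => ?_⟩
  have hwx := hw.trans (Cyc90.fromSpecStalk_specializes q)
  have hlt : (Cyc90.genPrime hwx).asIdeal < q.asIdeal := by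
    rw [lt_iff_le_and_ne]
    refine ⟨?_, fun e => hwne ?_⟩
    · have := (Cyc90.genPrime_le_iff hwx (Cyc90.fromSpecStalk_specializes q)).mpr hw
      rwa [Cyc90.genPrime_fromSpecStalk] at this
    · rw [← PrimeSpectrum.ext e, Cyc90.fromSpecStalk_genPrime]
  have hh : (Cyc90.genPrime hwx).asIdeal.height < q.asIdeal.height :=
    Ideal.height_strict_mono_of_isPrime hlt
  rw [hq] at hh
  obtain ⟨m, hm⟩ := ENat.ne_top_iff_exists.mp hh.ne_top
  rw [← hm] at hh
  exact Nat.find_min hne (m := m) (by exact_mod_cast hh)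
    ⟨Cyc90.genPrime hwx, by rw [Cyc90.fromSpecStalk_genPrime]; exact hPw, hm.symm⟩

end Groth.Agent.Mero90
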