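import Groth.Agent.Mero90.Dense

/-! When is `F → K_X(F)` injective. -/

universe u

open CategoryTheory AlgebraicGeometry TopologicalSpace Opposite IsLocalRing

namespace Groth.Agent.Mero90

variable {X : Scheme.{u}}

/-- An affine open of a locally Noetherian scheme has finitely many associated points. -/
lemma finite_assPoints [IsLocallyNoetherian X] {W : X.Opens} (hW : IsAffineOpen W) :
    {x : W | IsAssociatedPrime (maximalIdeal (X.presheaf.stalk x.1)) (X.presheaf.stalk x.1)}.Finite := by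
  have := IsLocallyNoetherian.component_noetherian (X := X) ⟨W, hW⟩
  refine Set.Finite.of_finite_image (f := fun x : W => (hW.primeIdealOf x).asIdeal)
    ((associatedPrimes.finite Γ(X, W) Γ(X, W)).subset ?_) ?_
  · rintro _ ⟨x, hx, rfl⟩
    let alg := TopCat.Presheaf.algebra_section_stalk X.presheaf x
    have := hW.isLocalization_stalk x
    have h : (maximalIdeal (X.presheaf.stalk x.1)).comap (algebraMap Γ(X, W) (X.presheaf.stalk x.1)) ∈
        associatedPrimes Γ(X, W) Γ(X, W) :=
      Module.associatedPrimes.comap_mem_associatedPrimes_of_mem_associatedPrimes_of_isLocalizedModule_of_fg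
        (hW.primeIdealOf x).asIdeal.primeCompl
        (Algebra.linearMap Γ(X, W) (X.presheaf.stalk x.1)) (maximalIdeal (X.presheaf.stalk x.1)) hx
        (IsNoetherian.noetherian _)
    change (hW.primeIdealOf x).asIdeal ∈ _
    rw [← IsLocalization.AtPrime.under_maximalIdeal (X.presheaf.stalk x.1) (hW.primeIdealOf x).asIdeal]
    exact h
  · intro x _ y _ hxy
    have : hW.primeIdealOf x = hW.primeIdealOf y := PrimeSpectrum.ext hxy
    exact Subtype.ext (by rw [← hW.fromSpec_primeIdealOf x, this, hW.fromSpec_primeIdealOf y])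

/-- A section with a nonzerodivisor germ is regular nearby. -/
theorem exists_regSub_of_germ [IsLocallyNoetherian X] {V : X.Opens} (hV : IsAffineOpen V) (f : Γ(X, V))
    {x : X} (hx : x ∈ V) (hf : X.presheaf.germ V x hx f ∈ nonZeroDivisors (X.presheaf.stalk x)) :
    ∃ (O : X.Opens) (hO : O ≤ V), x ∈ O ∧ X.presheaf.map (homOfLE hO).op f ∈ Mero.regSub X O := by
  let B : Set V := {z | IsAssociatedPrime (maximalIdeal (X.presheaf.stalk z.1)) (X.presheaf.stalk z.1) ∧
    ¬ IsUnit (X.presheaf.germ V z.1 z.2 f)}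
  have hB : B.Finite := (finite_assPoints hV).subset fun z hz => hz.1
  let C : Set X := ⋃ z ∈ B, closure {z.1}
  have hC : IsClosed C := hB.isClosed_biUnion fun z _ => isClosed_closure
  refine ⟨V ⊓ ⟨Cᶜ, hC.isOpen_compl⟩, inf_le_left, ⟨hx, ?_⟩, fun y => ?_⟩
  · intro hxC
    obtain ⟨z, hz, hxz⟩ := Set.mem_iUnion₂.mp hxC
    have hzx : z.1 ⤳ x := specializes_iff_mem_closure.mpr hxz
    let alg := (X.presheaf.stalkSpecializes hzx).hom.toAlgebra
    have hloc := Cyc90.isLocalization_genPrime hzx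
    have hmem := IsLocalization.map_nonZeroDivisors_le (Cyc90.genPrime hzx).asIdeal.primeCompl
      (X.presheaf.stalk z.1) ⟨_, hf, rfl⟩
    change X.presheaf.stalkSpecializes hzx (X.presheaf.germ V x hx f) ∈ _ at hmem
    rw [germ_stalkSpecializes] at hmem
    exact hz.2 (isUnit_of_isAssociatedPrime hz.1 hmem)
  · rw [TopCat.Presheaf.germ_res_apply]
    refine mem_nonZeroDivisors_of_assoc _ fun z hz hass => ?_
    rw [germ_stalkSpecializes]
    by_contra hu
    exact y.2.2 (Set.mem_iUnion₂.mpr ⟨⟨z, hz.mem_open V.2 y.2.1⟩, ⟨hass, hu⟩, specializes_iff_mem_closure.mp hz⟩)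

lemma isUnit_germ_of_assoc [IsLocallyNoetherian X] {V : X.Opens} (f : Mero.regSub X V) (z : V)
    (h : IsAssociatedPrime (maximalIdeal (X.presheaf.stalk z.1)) (X.presheaf.stalk z.1)) :
    IsUnit (X.presheaf.germ V z.1 z.2 f.1) :=
  isUnit_of_isAssociatedPrime h (f.2 z)

/-- A germ killed by a regular germ vanishes if `F ⟶ K_X(F)` is injective. -/
lemma germ_eq_zero_of_reg {F : X.Modules} [Mono (Mero.toMer F)] {x : X} (s : Mero.regStalk X x)
    (m : F.presheaf.stalk x) (h : s.1 • m = 0) : m = 0 := by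
  obtain ⟨_, V, hxV, f, hf, rfl⟩ := s
  obtain ⟨W, hxW, m', rfl⟩ := TopCat.Presheaf.exists_germ_eq F.presheaf m
  let O := V ⊓ W
  have h1 : F.presheaf.germ O x ⟨hxV, hxW⟩
      (X.presheaf.map (homOfLE (inf_le_left : O ≤ V)).op f • Var76.LineBundle.res F (inf_le_right : O ≤ W) m') =
      F.presheaf.germ O x ⟨hxV, hxW⟩ 0 := by
    rw [Mero.germ_smul, TopCat.Presheaf.germ_res_apply, TopCat.Presheaf.germ_res_apply, map_zero]
    exact h
  obtain ⟨O', hx', i, i', h2⟩ := TopCat.Presheaf.germ_eq F.presheaf x _ _ _ _ h1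
  rw [map_zero] at h2
  have h3 : (Mero.toMer F).app O' (Var76.LineBundle.res F (i.le.trans inf_le_right) m') = 0 := by
    refine Subtype.ext (funext fun y => ?_)
    change (LocalizedModule.mk (F.presheaf.germ O' y.1 y.2 _) 1 : Mero.MStalk F y.1) = 0
    have h4 := congrArg (F.presheaf.germ O' y.1 y.2) h2
    rw [map_zero, TopCat.Presheaf.germ_res_apply, Mero.germ_smul, TopCat.Presheaf.germ_res_apply,
      TopCat.Presheaf.germ_res_apply] at h4
    rw [← LocalizedModule.zero_mk 1, LocalizedModule.mk_eq]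
    refine ⟨Mero.regGerm (⟨y.1, (i.le y.2).1⟩ : V) ⟨f, hf⟩, ?_⟩
    rw [smul_zero, one_smul, TopCat.Presheaf.germ_res_apply, smul_zero]
    exact h4
  have h5 := QC70.app_injective_of_mono (Mero.toMer F) O' (h3.trans (map_zero _).symm)
  have h6 := congrArg (F.presheaf.germ O' x hx') h5
  rw [map_zero, TopCat.Presheaf.germ_res_apply] at h6
  exact h6

theorem mono_toMer_iff [IsLocallyNoetherian X] (F : X.Modules) (hF : Coh.IsQCoh F) :
    Mono (Mero.toMer F) ↔
      ∀ x : ↥X, Curv2.IsAssPoint F x →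
        IsAssociatedPrime (IsLocalRing.maximalIdeal ↑(X.presheaf.stalk x)) ↑(X.presheaf.stalk x) := by
  constructor
  · intro _ x hx
    obtain ⟨hmax, m, hm⟩ := hx
    by_contra hnot
    obtain ⟨g, hgm, hg⟩ : ∃ g ∈ maximalIdeal (X.presheaf.stalk x), g ∈ nonZeroDivisors (X.presheaf.stalk x) := by
      classical
      by_contra hcon
      push Not at hcon
      have hfin := associatedPrimes.finite (X.presheaf.stalk x) (X.presheaf.stalk x)
      have hsub : (maximalIdeal (X.presheaf.stalk x) : Set (X.presheaf.stalk x)) ⊆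
          ⋃ p ∈ hfin.toFinset, (p : Set (X.presheaf.stalk x)) := fun g hg => by
        have hmem : g ∈ ⋃ p ∈ associatedPrimes (X.presheaf.stalk x) (X.presheaf.stalk x),
            (p : Set (X.presheaf.stalk x)) := by
          rw [biUnion_associatedPrimes_eq_compl_nonZeroDivisors]; exact hcon g hg
        obtain ⟨p, hp, hgp⟩ := Set.mem_iUnion₂.mp hmem
        exact Set.mem_iUnion₂.mpr ⟨p, hfin.mem_toFinset.mpr hp, hgp⟩
      obtain ⟨p, hp, hle⟩ :=
        (Ideal.subset_union_prime ⊥ ⊥ fun p hp _ _ => (hfin.mem_toFinset.mp hp).isPrime).mp hsub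
      rw [Set.Finite.mem_toFinset] at hp
      exact hnot ((maximalIdeal.isMaximal _).eq_of_le hp.isPrime.ne_top hle ▸ hp)
    have hgS : g ∈ Mero.regStalk X x := by
      obtain ⟨V, hxV, f, rfl⟩ := TopCat.Presheaf.exists_germ_eq X.presheaf g
      obtain ⟨A, hA, hxA, hAV⟩ := exists_isAffineOpen_mem_and_subset hxV
      have hAV' : A ≤ V := hAV
      obtain ⟨O, hO, hxO, hreg⟩ := exists_regSub_of_germ hA (X.presheaf.map (homOfLE hAV').op f) hxA
        (by rw [TopCat.Presheaf.germ_res_apply]; exact hg)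
      exact ⟨O, hxO, _, hreg, by rw [TopCat.Presheaf.germ_res_apply, TopCat.Presheaf.germ_res_apply]⟩
    rw [hm] at hgm
    obtain ⟨n, hn⟩ := hgm
    rw [Submodule.mem_colon_singleton, Submodule.mem_bot] at hn
    have hm0 : m = 0 := germ_eq_zero_of_reg (⟨g, hgS⟩ ^ n) m hn
    refine hmax.ne_top ?_
    rw [hm, hm0, Ideal.radical_eq_top]
    exact Ideal.eq_top_iff_one _ |>.mpr (Submodule.mem_colon_singleton.mpr (by simp))
  · intro h
    refine QC70.mono_of_app_injective _ fun U => ?_
    refine (injective_iff_map_eq_zero ((Mero.toMer F).app U).hom).mpr fun m hm => ?_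
    refine Var76.ZeroScheme.eq_of_locally F m 0 fun y hy => ?_
    have h0 : (LocalizedModule.mk (F.presheaf.germ U y hy m) 1 : Mero.MStalk F y) = 0 :=
      congrArg (fun t : Γ(Mero.merMod F, U) => t.1 ⟨y, hy⟩) hm
    rw [← LocalizedModule.zero_mk 1, LocalizedModule.mk_eq] at h0
    obtain ⟨⟨_, V, hyV, f, hf, rfl⟩, h0⟩ := h0
    rw [smul_zero, one_smul, smul_zero] at h0
    let O := V ⊓ U
    have h1 : F.presheaf.germ O y ⟨hyV, hy⟩
        (X.presheaf.map (homOfLE (inf_le_left : O ≤ V)).op f • Var76.LineBundle.res F (inf_le_right : O ≤ U) m) =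
        F.presheaf.germ O y ⟨hyV, hy⟩ 0 := by
      rw [Mero.germ_smul, TopCat.Presheaf.germ_res_apply, TopCat.Presheaf.germ_res_apply, map_zero]
      exact h0
    obtain ⟨O', hy', i, i', h2⟩ := TopCat.Presheaf.germ_eq F.presheaf y _ _ _ _ h1
    obtain ⟨A, hA, hyA, hAO⟩ := exists_isAffineOpen_mem_and_subset hy'
    have hAO' : A ≤ O' := hAO
    have hAU : A ≤ U := hAO'.trans (i.le.trans inf_le_right)
    refine ⟨A, hAU, hyA, ?_⟩
    rw [show Var76.LineBundle.res F hAU (0 : Γ(F, U)) = 0 from map_zero _]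
    refine Div89.eq_zero_of_germ_weakAss F hF ⟨A, hA⟩ _ fun z hz hw => ?_
    have hzV : z ∈ V := (i.le (hAO' hz)).1
    obtain ⟨w, hw⟩ := hw
    have hass := h z ⟨(maximalIdeal.isMaximal _).isPrime, w, by
      rw [← hw]
      congr 1
      ext r
      simp [Submodule.mem_colon_singleton]⟩
    have hu := isUnit_germ_of_assoc ⟨f, hf⟩ ⟨z, hzV⟩ hass
    have h4 := congrArg (F.presheaf.germ O' z (hAO' hz)) h2
    rw [map_zero, map_zero, TopCat.Presheaf.germ_res_apply, Mero.germ_smul, TopCat.Presheaf.germ_res_apply,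
      TopCat.Presheaf.germ_res_apply] at h4
    rw [TopCat.Presheaf.germ_res_apply]
    exact hu.smul_eq_zero.mp h4

end Groth.Agent.Mero90
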