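import Groth.Agent.Mero90.Triv
import Mathlib.AlgebraicGeometry.Properties

/-! Schematically dense opens from associated or maximal points. -/

universe u

open CategoryTheory AlgebraicGeometry TopologicalSpace Opposite IsLocalRing

namespace Groth.Agent.Mero90

open Var76.LineBundle

variable {X : Scheme.{u}}

/-- `η` has no proper generization. -/
def MaxPt (η : X) : Prop := ∀ w, w ⤳ η → w = η

lemma MaxPt.closure_mem {η : X} (h : MaxPt η) : closure ({η} : Set X) ∈ irreducibleComponents X := by
  refine ⟨isIrreducible_singleton.closure, fun Z hZ hle => ?_⟩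
  obtain ⟨w, hw⟩ := QuasiSober.sober hZ.closure isClosed_closure
  have hspec : w ⤳ η := hw.specializes (subset_closure (hle (subset_closure rfl)))
  have := h w hspec
  subst this
  exact subset_closure.trans hw.def.ge

lemma maxPt_of_closure_mem {η : X} (h : closure ({η} : Set X) ∈ irreducibleComponents X) : MaxPt η := by
  intro w hw
  have hle : closure ({η} : Set X) ⊆ closure {w} := specializes_iff_closure_subset.mp hw
  have := h.2 isIrreducible_singleton.closure hle
  exact ((specializes_iff_closure_subset.mpr this).antisymm hw).eq.symm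

lemma exists_maxPt (y : X) : ∃ η, MaxPt η ∧ η ⤳ y := by
  obtain ⟨η, hη⟩ := QuasiSober.sober (isIrreducible_irreducibleComponent (x := y)) isClosed_irreducibleComponent
  refine ⟨η, maxPt_of_closure_mem ?_, hη.specializes mem_irreducibleComponent⟩
  rw [hη.def]
  exact irreducibleComponent_mem_irreducibleComponents y

/-- On a reduced scheme a function vanishing at all maximal points vanishes. -/
lemma eq_zero_of_maxPt [IsReduced X] {W : X.Opens} (a : Γ(X, W))
    (h : ∀ (η : X) (hη : η ∈ W), MaxPt η → X.presheaf.germ W η hη a = 0) : a = 0 := by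
  rw [← basicOpen_eq_bot_iff]
  refine SetLike.ext' (Set.eq_empty_of_forall_notMem fun y hy => ?_)
  obtain ⟨η, hη, hspec⟩ := exists_maxPt y
  have hηb : η ∈ X.basicOpen a := hspec.mem_open (X.basicOpen a).2 hy
  have hηW : η ∈ W := X.basicOpen_le a hηb
  have hu := (X.mem_basicOpen a η hηW).mp hηb
  rw [h η hηW hη] at hu
  exact not_isUnit_zero hu

lemma schDense_of_maxPt [IsReduced X] {U V : X.Opens} (h : ∀ η ∈ U, MaxPt η → η ∈ V) : SchDense U V := by
  intro W hW
  rw [injective_iff_map_eq_zero]
  intro a ha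
  refine eq_zero_of_maxPt a fun η hη hmax => ?_
  have := congrArg (X.presheaf.germ (W ⊓ V) η ⟨hη, h η (hW hη) hmax⟩) ha
  rwa [map_zero, TopCat.Presheaf.germ_res_apply] at this

/-- An open containing all associated points is schematically dense. -/
lemma schDense_of_assoc [IsLocallyNoetherian X] {V : X.Opens}
    (h : ∀ z : X, IsAssociatedPrime (maximalIdeal (X.presheaf.stalk z)) (X.presheaf.stalk z) → z ∈ V) :
    SchDense ⊤ V := by
  intro W _
  rw [injective_iff_map_eq_zero]
  intro a ha
  refine TopCat.Presheaf.section_ext X.sheaf _ _ _ fun x hx => ?_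
  change X.presheaf.germ W x hx a = X.presheaf.germ W x hx 0
  rw [map_zero]
  by_contra hne
  obtain ⟨p, hp, hle⟩ := exists_le_isAssociatedPrime_of_isNoetherianRing (X.presheaf.stalk x) _ hne
  let q : PrimeSpectrum (X.presheaf.stalk x) := ⟨p, hp.isPrime⟩
  have hz := Cyc90.fromSpecStalk_specializes q
  set z := (X.fromSpecStalk x).base q
  have hq : (Cyc90.genPrime hz).asIdeal = p :=
    congrArg PrimeSpectrum.asIdeal (Cyc90.genPrime_fromSpecStalk q)
  let alg := (X.presheaf.stalkSpecializes hz).hom.toAlgebra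
  have hloc := Cyc90.isLocalization_genPrime hz
  have hass : IsAssociatedPrime (maximalIdeal (X.presheaf.stalk z)) (X.presheaf.stalk z) := by
    refine Module.associatedPrimes.mem_associatedPrimes_of_comap_mem_associatedPrimes_of_isLocalizedModule
      (Cyc90.genPrime hz).asIdeal.primeCompl
      (Algebra.linearMap (X.presheaf.stalk x) _) _ ?_
    rw [show (maximalIdeal (X.presheaf.stalk z)).comap (algebraMap (X.presheaf.stalk x) _) = p from hq]
    exact hp
  have hzW : z ∈ W := hz.mem_open W.2 hx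
  have h0 := congrArg (X.presheaf.germ (W ⊓ V) z ⟨hzW, h z hass⟩) ha
  rw [map_zero, TopCat.Presheaf.germ_res_apply] at h0
  have h1 : algebraMap (X.presheaf.stalk x) (X.presheaf.stalk z) (X.presheaf.germ W x hx a) = 0 :=
    (germ_stalkSpecializes hz hx a).trans h0
  obtain ⟨⟨c, hc⟩, hca⟩ := (IsLocalization.map_eq_zero_iff (Cyc90.genPrime hz).asIdeal.primeCompl
    (X.presheaf.stalk z) _).mp h1
  have hcp : c ∈ p := hle (by rw [Submodule.mem_colon_singleton]; simpa using hca)
  rw [← hq] at hcp
  exact hc hcp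

/-- Components are isolated at their generic points when locally finite. -/
lemma exists_isolated_nbhd (hfin : ∀ x : X, ∃ W : X.Opens, x ∈ W ∧
      {Z : Set X | Z ∈ irreducibleComponents X ∧ (Z ∩ (W : Set X)).Nonempty}.Finite)
    {η : X} (hη : MaxPt η) {U : X.Opens} (hU : η ∈ U) :
    ∃ W : X.Opens, η ∈ W ∧ W ≤ U ∧ ∀ y ∈ W, ∀ w, MaxPt w → w ⤳ y → w = η := by
  obtain ⟨W₀, hη₀, hf⟩ := hfin η
  let C : Set (Set X) := {Z | Z ∈ irreducibleComponents X ∧ (Z ∩ (W₀ : Set X)).Nonempty} \ {closure {η}}
  have hC : IsClosed (⋃₀ C) := by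
    rw [Set.sUnion_eq_biUnion]
    exact hf.sdiff.isClosed_biUnion fun Z hZ => isClosed_of_mem_irreducibleComponents Z hZ.1.1
  refine ⟨U ⊓ W₀ ⊓ ⟨(⋃₀ C)ᶜ, hC.isOpen_compl⟩, ⟨⟨hU, hη₀⟩, ?_⟩, fun y hy => hy.1.1, fun y hy w hw hwy => ?_⟩
  · rintro ⟨Z, ⟨hZ, hne⟩, hmem⟩
    refine hne ?_
    have hsub : closure ({η} : Set X) ⊆ Z :=
      (isClosed_of_mem_irreducibleComponents Z hZ.1).closure_subset_iff.mpr (Set.singleton_subset_iff.mpr hmem)
    exact Set.mem_singleton_iff.mpr (le_antisymm (hη.closure_mem.2 hZ.1.1 hsub) hsub)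
  · by_contra hne
    refine hy.2 ⟨closure {w}, ⟨⟨hw.closure_mem, y, specializes_iff_mem_closure.mp hwy, hy.1.2⟩, ?_⟩,
      specializes_iff_mem_closure.mp hwy⟩
    intro he
    rw [Set.mem_singleton_iff] at he
    exact hne (hη w (specializes_iff_mem_closure.mpr (he ▸ subset_closure rfl)))

/-- On a reduced scheme with locally finitely many components, every invertible module has a regular
meromorphic section. -/
theorem hasRegularMero_of_isReduced [IsReduced X] (hfin : ∀ x : X, ∃ W : X.Opens, x ∈ W ∧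
      {Z : Set X | Z ∈ irreducibleComponents X ∧ (Z ∩ (W : Set X)).Nonempty}.Finite)
    {L : X.Modules} (hL : PicF.IsInvertible L) : Mero.HasRegularMero L := by
  choose U hU e he using fun η : {η : X // MaxPt η} => exists_frame' hL η.1
  choose W hηW hWU hW using fun η : {η : X // MaxPt η} => exists_isolated_nbhd hfin η.2 (hU η)
  let V : X.Opens := ⨆ η, W η
  obtain ⟨m, hm, -⟩ := TopCat.Sheaf.existsUnique_gluing' (⟨L.presheaf, L.isSheaf⟩ : TopCat.Sheaf Ab X)
    W V (fun η => homOfLE (le_iSup W η)) le_rfl (fun η => res L (hWU η) (e η)) (fun η η' => by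
      by_cases h : η = η'
      · subst h; rfl
      · apply TopCat.Presheaf.section_ext (⟨L.presheaf, L.isSheaf⟩ : TopCat.Sheaf Ab X)
        intro y hy
        obtain ⟨w, hw, hwy⟩ := exists_maxPt y
        exact absurd (Subtype.ext ((hW η y hy.1 w hw hwy).symm.trans (hW η' y hy.2 w hw hwy))) h)
  have hd : SchDense ⊤ V := schDense_of_maxPt fun η _ hη => Opens.mem_iSup.2 ⟨⟨η, hη⟩, hηW _⟩
  refine hasRegularMero_of_gen (goodAffines_of (Or.inr ⟨inferInstance, hfin⟩)) hL hd m fun y => ?_
  obtain ⟨η, hη⟩ := Opens.mem_iSup.1 y.2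
  have h1 := congrArg (L.presheaf.germ (W η) y.1 hη) (hm η)
  change L.presheaf.germ (W η) y.1 hη (L.presheaf.map _ m) = L.presheaf.germ (W η) y.1 hη (L.presheaf.map _ (e η)) at h1
  rw [TopCat.Presheaf.germ_res_apply, TopCat.Presheaf.germ_res_apply] at h1
  rw [h1]
  exact isGen_germ (he η) ⟨y.1, hWU η hη⟩

/-- An invertible module on a locally Noetherian scheme with all associated points in an affine open has a
regular meromorphic section. -/
theorem hasRegularMero_of_assoc [IsLocallyNoetherian X] {W : X.Opens} (hW : IsAffineOpen W)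
    (hassoc : ∀ x : X, IsAssociatedPrime (maximalIdeal (X.presheaf.stalk x)) (X.presheaf.stalk x) → x ∈ W)
    {L : X.Modules} (hL : PicF.IsInvertible L) : Mero.HasRegularMero L := by
  classical
  have := IsLocallyNoetherian.component_noetherian (X := X) ⟨W, hW⟩
  have hfinP : {x : W | IsAssociatedPrime (maximalIdeal (X.presheaf.stalk x.1)) (X.presheaf.stalk x.1)}.Finite := by
    refine Set.Finite.of_finite_image (f := fun x : W => (hW.primeIdealOf x).asIdeal)
      ((associatedPrimes.finite Γ(X, W) Γ(X, W)).subset ?_) ?_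
    · rintro _ ⟨x, hx, rfl⟩
      let alg := TopCat.Presheaf.algebra_section_stalk X.presheaf x
      have := hW.isLocalization_stalk x
      have h : (maximalIdeal (X.presheaf.stalk x.1)).comap (algebraMap Γ(X, W) (X.presheaf.stalk x.1)) ∈
          associatedPrimes Γ(X, W) Γ(X, W) :=
        Module.associatedPrimes.comap_mem_associatedPrimes_of_mem_associatedPrimes_of_isLocalizedModule_of_fg
          (hW.primeIdealOf x).asIdeal.primeCompl
          (Algebra.linearMap Γ(X, W) (X.presheaf.stalk x.1)) (maximalIdeal (X.presheaf.stalk x.1)) hx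
          (IsNoetherian.noetherian _)
      change (hW.primeIdealOf x).asIdeal ∈ _
      rw [← IsLocalization.AtPrime.under_maximalIdeal (X.presheaf.stalk x.1) (hW.primeIdealOf x).asIdeal]
      exact h
    · intro x _ y _ hxy
      have : hW.primeIdealOf x = hW.primeIdealOf y := PrimeSpectrum.ext hxy
      exact Subtype.ext (by rw [← hW.fromSpec_primeIdealOf x, this, hW.fromSpec_primeIdealOf y])
  obtain ⟨m, hm⟩ := exists_gen_finite hL hW hfinP.toFinset
  let S : Set X := {y | ∃ hy : y ∈ W, IsGen (L.presheaf.germ W y hy m)}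
  have hS : IsOpen S := by
    rw [isOpen_iff_forall_mem_open]
    rintro y ⟨hyW, hgen⟩
    obtain ⟨U, hyU, e, he⟩ := exists_frame' hL y
    obtain ⟨c, hc⟩ := (he (U ⊓ W) inf_le_left).2 (res L inf_le_right m)
    have hgerm : ∀ (z : X) (hz : z ∈ U ⊓ W), L.presheaf.germ W z hz.2 m =
        X.presheaf.germ (U ⊓ W) z hz c • L.presheaf.germ U z hz.1 e := fun z hz => by
      have := congrArg (L.presheaf.germ (U ⊓ W) z hz) hc
      rw [Mero.germ_smul, TopCat.Presheaf.germ_res_apply, TopCat.Presheaf.germ_res_apply] at this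
      exact this.symm
    refine ⟨X.basicOpen c, fun z hz => ?_, (X.basicOpen c).2, ?_⟩
    · have hzO := X.basicOpen_le c hz
      have hu := (X.mem_basicOpen c z hzO).mp hz
      refine ⟨hzO.2, ?_⟩
      rw [hgerm z hzO]
      exact ⟨fun p q hpq => hu.mul_right_cancel ((isGen_germ he ⟨z, hzO.1⟩).1 (by simpa only [mul_smul] using hpq)),
        fun v => by
          obtain ⟨p, hp⟩ := (isGen_germ he ⟨z, hzO.1⟩).2 v
          exact ⟨p * ↑hu.unit⁻¹, by
            dsimp only at hp ⊢
            rw [smul_smul, mul_assoc, hu.val_inv_mul, mul_one, hp]⟩⟩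
    · rw [hgerm y ⟨hyU, hyW⟩] at hgen
      obtain ⟨p, hp⟩ := hgen.2 (L.presheaf.germ U y hyU e)
      dsimp only at hp
      rw [smul_smul] at hp
      exact (X.mem_basicOpen c y ⟨hyU, hyW⟩).mpr (IsUnit.of_mul_eq_one p ((isGen_germ he ⟨y, hyU⟩).1 (by
        dsimp only; rw [one_smul, mul_comm]; exact hp)))
  let V : X.Opens := ⟨S, hS⟩
  have hVW : V ≤ W := fun y hy => hy.1
  have hd : SchDense ⊤ V := schDense_of_assoc fun z hz =>
    ⟨hassoc z hz, hm ⟨z, hassoc z hz⟩ (hfinP.mem_toFinset.mpr hz)⟩
  refine hasRegularMero_of_gen (goodAffines_of (Or.inl inferInstance)) hL hd (res L hVW m) fun y => ?_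
  obtain ⟨_, h⟩ := y.2
  rw [TopCat.Presheaf.germ_res_apply]
  exact h

end Groth.Agent.Mero90
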