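import Groth.Prelude.Def_MeroDiv
import Mathlib.RingTheory.Localization.Basic

/-! Basic calculus of meromorphic functions and divisors: fractions, classes. -/

universe u

open CategoryTheory AlgebraicGeometry TopologicalSpace Opposite

namespace Groth.Agent.Mero90

variable {X : Scheme.{u}}

lemma mk_eq_mk' (x : X) (a : X.presheaf.stalk x) (s : Mero.regStalk X x) :
    (LocalizedModule.mk a s : Mero.KStalk X x) = IsLocalization.mk' (Mero.KStalk X x) a s := by
  rw [← Localization.mk_eq_mk']; rfl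

lemma germ_res {V W : X.Opens} (h : W ≤ V) (y : W) (a : Γ(X, V)) :
    X.presheaf.germ W y.1 y.2 (X.presheaf.map (homOfLE h).op a) =
      X.presheaf.germ V y.1 (h y.2) a :=
  TopCat.Presheaf.germ_res_apply _ _ _ _ _

lemma mem_regSub_iff {U : X.Opens} {f : Γ(X, U)} : f ∈ Mero.regSub X U ↔
    ∀ x : U, X.presheaf.germ U x.1 x.2 f ∈ nonZeroDivisors (X.presheaf.stalk x.1) := Iff.rfl

/-- The unit of `K_x` given by an element of the stalk monoid. -/
noncomputable def regUnit (x : X) (s : Mero.regStalk X x) : (Mero.KStalk X x)ˣ :=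
  (IsLocalization.map_units (Mero.KStalk X x) s).unit

lemma regUnit_val (x : X) (s : Mero.regStalk X x) :
    (regUnit x s : Mero.KStalk X x) = algebraMap _ _ s.1 := rfl

/-- The class of `a / b` as a germ of divisor. -/
noncomputable def cls (x : X) (a b : Mero.regStalk X x) : Mero.Germ X x :=
  QuotientGroup.mk (regUnit x a / regUnit x b)

/-- The unit of `K_x` given by `a / b`. -/
lemma regUnit_div_val (x : X) (a b : Mero.regStalk X x) :
    ((regUnit x a / regUnit x b : (Mero.KStalk X x)ˣ) : Mero.KStalk X x) =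
      IsLocalization.mk' (Mero.KStalk X x) a.1 b := by
  rw [IsLocalization.eq_mk'_iff_mul_eq, ← regUnit_val, ← regUnit_val, ← Units.val_mul,
    div_mul_cancel]

lemma range_eq {x : X} {a : X.presheaf.stalk x} {b : Mero.regStalk X x} :
    IsLocalization.mk' (Mero.KStalk X x) a b ∈ (algebraMap (X.presheaf.stalk x) (Mero.KStalk X x)).range
      ↔ b.1 ∣ a := by
  constructor
  · rintro ⟨c, hc⟩
    refine ⟨c, ?_⟩
    apply Mero.algebraMap_KStalk_injective x
    rw [eq_comm, IsLocalization.mk'_eq_iff_eq_mul, ← map_mul] at hc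
    rw [hc, mul_comm]
  · rintro ⟨c, rfl⟩
    exact ⟨c, by rw [eq_comm, IsLocalization.mk'_eq_iff_eq_mul, ← map_mul, mul_comm]⟩

lemma mk_mem_stalkUnits_iff {x : X} (a b : Mero.regStalk X x) :
    regUnit x a / regUnit x b ∈ Mero.stalkUnits X x ↔ Associated b.1 a.1 := by
  constructor
  · rintro ⟨c, hc⟩
    refine ⟨c, ?_⟩
    apply Mero.algebraMap_KStalk_injective x
    have := congrArg Units.val hc
    rw [Units.coe_map, regUnit_div_val, IsLocalization.eq_mk'_iff_mul_eq] at this
    rw [map_mul, mul_comm]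
    exact this
  · rintro ⟨c, hc⟩
    refine ⟨c, Units.ext ?_⟩
    rw [Units.coe_map, regUnit_div_val, IsLocalization.eq_mk'_iff_mul_eq, ← hc, map_mul, mul_comm]
    rfl

lemma cls_eq_one_iff {x : X} (a b : Mero.regStalk X x) : cls x a b = 1 ↔ Associated b.1 a.1 := by
  rw [cls, QuotientGroup.eq_one_iff]
  exact mk_mem_stalkUnits_iff a b

lemma cls_inv (x : X) (a b : Mero.regStalk X x) : (cls x a b)⁻¹ = cls x b a := by
  rw [cls, cls, ← QuotientGroup.mk_inv, inv_div]

/-- A divisor with germ the class of `a / b` at `x` is effective there iff `a = b c` with `c` in `S_x`. -/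
lemma effAt_iff {x : X} (D : Mero.Divisor X) (a b : Mero.regStalk X x) (h : D.1 x = cls x a b) :
    Mero.IsEffectiveAt D x ↔ ∃ c : Mero.regStalk X x, Associated (b.1 * c.1) a.1 := by
  have key : ∀ c : Mero.regStalk X x, (D.1 x = QuotientGroup.mk (regUnit x c) ↔
      Associated (b.1 * c.1) a.1) := by
    intro c
    rw [h, cls, eq_comm, QuotientGroup.eq]
    have e : (regUnit x c)⁻¹ * (regUnit x a / regUnit x b) =
        regUnit x a / regUnit x (b * c) := by
      have : regUnit x (b * c) = regUnit x b * regUnit x c := Units.ext (map_mul _ b.1 c.1)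
      rw [this, div_mul_eq_div_div, div_eq_mul_inv _ (regUnit x c), mul_comm]
    rw [e, mk_mem_stalkUnits_iff]
    rfl
  exact ⟨fun ⟨c, hc⟩ => ⟨c, (key c).mp hc⟩, fun ⟨c, hc⟩ => ⟨c, (key c).mpr hc⟩⟩

/-- Sections of `K_X` are equal when their values are. -/
lemma kext {U : X.Opens} {f g : Γ(Mero.kmod X, U)} (h : ∀ x : U, f.1 x = g.1 x) : f = g :=
  Subtype.ext (funext h)

/-- A section of `K_X` is locally a fraction. -/
lemma exists_frac {U : X.Opens} (f : Γ(Mero.kmod X, U)) (x : U) :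
    ∃ (V : X.Opens) (_ : x.1 ∈ V) (hV : V ≤ U) (a : Γ(X, V)) (b : Mero.regSub X V),
      ∀ y : V, f.1 ⟨y.1, hV y.2⟩ = IsLocalization.mk' (Mero.KStalk X y.1)
        (X.presheaf.germ V y.1 y.2 a) (Mero.regGerm y b) := by
  obtain ⟨V, hx, i, a, b, w⟩ := f.2 x
  exact ⟨V, hx, i.le, a, b, fun y => (w y).trans (mk_eq_mk' _ _ _)⟩

/-- The value of a section of `K_X` over a neighbourhood is a fraction with stalk denominators. -/
lemma eval_isUnit {U : X.Opens} (f : (Γ(Mero.kmod X, U))ˣ) (x : U) :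
    IsUnit (f.1.1 x) := f.isUnit.map (Mero.evalK X U x)

/-- A numerator of a unit germ is a nonzerodivisor. -/
lemma nzd_of_isUnit_mk' {x : X} {a : X.presheaf.stalk x} {b : Mero.regStalk X x}
    (h : IsUnit (IsLocalization.mk' (Mero.KStalk X x) a b)) :
    a ∈ nonZeroDivisors (X.presheaf.stalk x) := by
  rw [mem_nonZeroDivisors_iff_right]
  intro c hc
  have : algebraMap _ (Mero.KStalk X x) c * IsLocalization.mk' (Mero.KStalk X x) a b = 0 := by
    rw [← IsLocalization.mk'_one (M := Mero.regStalk X x) (Mero.KStalk X x) c,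
      ← IsLocalization.mk'_mul, hc, IsLocalization.mk'_zero]
  exact Mero.algebraMap_KStalk_injective x ((h.mul_left_eq_zero.mp this).trans (map_zero _).symm)

/-- A unit of `Γ(U, K_X)` is locally a quotient of regular sections. -/
lemma exists_unit_frac {U : X.Opens} (f : (Γ(Mero.kmod X, U))ˣ) (x : U) :
    ∃ (V : X.Opens) (_ : x.1 ∈ V) (hV : V ≤ U) (a b : Mero.regSub X V),
      ∀ y : V, f.1.1 ⟨y.1, hV y.2⟩ = IsLocalization.mk' (Mero.KStalk X y.1)
        (X.presheaf.germ V y.1 y.2 a.1) (Mero.regGerm y b) := by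
  obtain ⟨V, hx, hV, a, b, w⟩ := exists_frac f.1 x
  exact ⟨V, hx, hV, ⟨a, fun y => nzd_of_isUnit_mk' (b := Mero.regGerm y b)
    (w y ▸ eval_isUnit f ⟨y.1, hV y.2⟩)⟩, b, w⟩

/-- A divisor is locally the class of a quotient of regular sections. -/
lemma exists_cls (D : Mero.Divisor X) (x : X) :
    ∃ (V : X.Opens) (_ : x ∈ V) (a b : Mero.regSub X V),
      ∀ y : V, D.1 y.1 = cls y.1 (Mero.regGerm y a) (Mero.regGerm y b) := by
  obtain ⟨U, hx, f, hf⟩ := D.2 x
  obtain ⟨V, hxV, hV, a, b, w⟩ := exists_unit_frac f ⟨x, hx⟩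
  refine ⟨V, hxV, a, b, fun y => ?_⟩
  rw [hf ⟨y.1, hV y.2⟩]
  refine congrArg _ (Units.ext ?_)
  rw [regUnit_div_val]
  exact w y

lemma exists_cls_germ (D : Mero.Divisor X) (x : X) :
    ∃ a b : Mero.regStalk X x, D.1 x = cls x a b := by
  obtain ⟨V, hx, a, b, h⟩ := exists_cls D x
  exact ⟨_, _, h ⟨x, hx⟩⟩

lemma mk_regUnit_mul_cls {x : X} (D : Mero.Divisor X) (t : Mero.KStalk X x)
    (g : (Mero.KStalk X x)ˣ) (h : D.1 x = QuotientGroup.mk g) :
    Mero.DivCond D x t ↔ t * g ∈ (algebraMap (X.presheaf.stalk x) (Mero.KStalk X x)).range := by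
  refine ⟨fun ht => ht g h, fun ht g' hg' => ?_⟩
  obtain ⟨c, hc⟩ := QuotientGroup.eq.mp (h.symm.trans hg')
  have : g' = g * Units.map (algebraMap _ _).toMonoidHom c := by rw [hc, mul_inv_cancel_left]
  rw [this, Units.val_mul, ← mul_assoc]
  exact mul_mem ht ⟨c, rfl⟩

/-- A regular section as a unit of the ring of sections of `K_X`. -/
noncomputable def toKUnit {U : X.Opens} (b : Mero.regSub X U) : (Γ(Mero.kmod X, U))ˣ where
  val := Mero.toK X U b.1
  inv := ⟨fun y => LocalizedModule.mk 1 (Mero.regGerm y b), fun y => ⟨U, y.2, 𝟙 _, 1, b, fun z =>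
    Mero.mk_congr (map_one (X.presheaf.germ U z.1 z.2).hom).symm rfl⟩⟩
  val_inv := kext fun y => by
    change (LocalizedModule.mk (X.presheaf.germ U y.1 y.2 b.1) 1 *
      LocalizedModule.mk 1 (Mero.regGerm y b) : Mero.KStalk X y.1) = 1
    refine LocalizedModule.mk_mul_mk.trans ((Mero.mk_congr ?_ ?_).trans
      (Mero.mk_self_eq_one (Mero.regGerm y b)))
    · rw [mul_one]
    · rw [one_mul]
  inv_val := kext fun y => by
    change (LocalizedModule.mk 1 (Mero.regGerm y b) *
      LocalizedModule.mk (X.presheaf.germ U y.1 y.2 b.1) 1 : Mero.KStalk X y.1) = 1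
    refine LocalizedModule.mk_mul_mk.trans ((Mero.mk_congr ?_ ?_).trans
      (Mero.mk_self_eq_one (Mero.regGerm y b)))
    · rw [one_mul]
    · rw [mul_one]

/-- The unit `a / b` of the ring of sections of `K_X`. -/
noncomputable def fracUnit {U : X.Opens} (a b : Mero.regSub X U) : (Γ(Mero.kmod X, U))ˣ :=
  toKUnit a / toKUnit b

lemma evalK_toKUnit {U : X.Opens} (b : Mero.regSub X U) (y : U) :
    Units.map (Mero.evalK X U y).toMonoidHom (toKUnit b) = regUnit y.1 (Mero.regGerm y b) :=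
  Units.ext <| by
    change LocalizedModule.mk _ _ = _
    rw [regUnit_val, mk_eq_mk', IsLocalization.mk'_one]

lemma germOf_fracUnit {U : X.Opens} (a b : Mero.regSub X U) (y : U) :
    Mero.germOf (fracUnit a b) y = cls y.1 (Mero.regGerm y a) (Mero.regGerm y b) := by
  rw [cls, Mero.germOf, fracUnit, map_div, evalK_toKUnit, evalK_toKUnit]

end Groth.Agent.Mero90
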