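import Groth.Agent.Mero90.Regular
import Mathlib.AlgebraicGeometry.Morphisms.QuasiSeparated

/-! The domain of definition of a meromorphic function. -/

universe u

open CategoryTheory AlgebraicGeometry TopologicalSpace Opposite

namespace Groth.Agent.Mero90

variable {X : Scheme.{u}}

/-- On an affine open, a function killed on `D(b)` is killed by a regular `b`. -/
lemma eq_zero_of_res_basicOpen {V : X.Opens} (hV : IsAffineOpen V) (b : Mero.regSub X V)
    (r : Γ(X, V)) (h : X.presheaf.map (homOfLE (X.basicOpen_le b.1)).op r = 0) : r = 0 := by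
  have := hV.isLocalization_basicOpen b.1
  obtain ⟨c, hc⟩ := IsLocalization.exists_of_eq (M := Submonoid.powers b.1)
    (S := Γ(X, X.basicOpen b.1)) (show algebraMap Γ(X, V) _ r = algebraMap Γ(X, V) _ 0 by
      rw [map_zero]; exact h)
  rw [mul_zero] at hc
  have hb : c.1 ∈ nonZeroDivisors Γ(X, V) := by
    obtain ⟨n, hn⟩ := c.2
    rw [← hn]
    exact pow_mem (regSub_eq_nonZeroDivisors hV ▸ b.2) n
  exact mem_nonZeroDivisors_iff_right.mp hb r (by rw [mul_comm]; exact hc)

/-- The set where a section of `K_X` lies in the structure sheaf is open. -/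
lemma isOpen_domain (f : Γ(Mero.kmod X, ⊤)) :
    IsOpen {x | f.1 ⟨x, Opens.mem_top x⟩ ∈ (algebraMap (X.presheaf.stalk x) (Mero.KStalk X x)).range} := by
  rw [isOpen_iff_forall_mem_open]
  intro x hx
  obtain ⟨V, hxV, hle, a, b, hw⟩ := exists_frac f ⟨x, Opens.mem_top x⟩
  rw [Set.mem_ofPred_eq, hw ⟨x, hxV⟩, range_eq] at hx
  obtain ⟨c, hc⟩ := hx
  obtain ⟨W, hxW, c', rfl⟩ := X.presheaf.exists_germ_eq c
  have hVW : x ∈ V ⊓ W := ⟨hxV, hxW⟩
  have e : X.presheaf.germ (V ⊓ W) x hVW (X.presheaf.map (homOfLE inf_le_left).op b.1 *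
      X.presheaf.map (homOfLE inf_le_right).op c') = X.presheaf.germ V x hxV a := by
    rw [map_mul, TopCat.Presheaf.germ_res_apply, TopCat.Presheaf.germ_res_apply]; exact hc.symm
  obtain ⟨O, hO, i, j, heq⟩ := X.presheaf.germ_eq x _ _ _ _ e
  refine ⟨O, fun y hy => ?_, O.isOpen, hO⟩
  rw [Set.mem_ofPred_eq, hw ⟨y, j.le hy⟩, range_eq]
  have := congrArg (X.presheaf.germ O y hy) heq
  rw [TopCat.Presheaf.germ_res_apply, TopCat.Presheaf.germ_res_apply, map_mul] at this
  exact ⟨X.presheaf.germ W y (i.le hy).2 c', this.symm.trans (by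
    rw [TopCat.Presheaf.germ_res_apply, TopCat.Presheaf.germ_res_apply])⟩

/-- The domain of definition is schematically dense. -/
lemma injective_res_domain (f : Γ(Mero.kmod X, ⊤)) (D : X.Opens)
    (hD : (D : Set X) = {x | f.1 ⟨x, Opens.mem_top x⟩ ∈
      (algebraMap (X.presheaf.stalk x) (Mero.KStalk X x)).range}) (V : X.Opens) :
    Function.Injective (X.presheaf.map (homOfLE (inf_le_left : V ⊓ D ≤ V)).op) := by
  rw [injective_iff_map_eq_zero]
  intro r hr
  apply TopCat.Presheaf.section_ext X.sheaf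
  intro x hx
  change X.presheaf.germ V x hx r = X.presheaf.germ V x hx 0
  rw [map_zero]
  obtain ⟨W, hxW, _, a, b, hw⟩ := exists_frac f ⟨x, Opens.mem_top x⟩
  obtain ⟨_, ⟨A, hA, rfl⟩, hxA, hAle⟩ :=
    X.isBasis_affineOpens.exists_subset_of_mem_open
      (show x ∈ ((V ⊓ W : X.Opens) : Set X) from ⟨hx, hxW⟩) (V ⊓ W).isOpen
  have hAV : A ≤ V := fun y hy => (hAle hy).1
  have hAW : A ≤ W := fun y hy => (hAle hy).2
  let bA : Mero.regSub X A := ⟨_, Mero.regSub_res (homOfLE hAW) b.2⟩
  have hsub : X.basicOpen bA.1 ≤ V ⊓ D := fun y hy => by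
    have hyA : y ∈ A := X.basicOpen_le _ hy
    refine ⟨hAV hyA, hD.ge ?_⟩
    rw [Set.mem_ofPred_eq, hw ⟨y, hAW hyA⟩, range_eq]
    refine IsUnit.dvd ?_
    have := (X.mem_basicOpen _ y hyA).mp hy
    rwa [TopCat.Presheaf.germ_res_apply] at this
  have h0 : X.presheaf.map (homOfLE hAV).op r = 0 := by
    apply eq_zero_of_res_basicOpen hA bA
    have := congrArg (X.presheaf.map (homOfLE hsub).op) hr
    rw [map_zero] at this
    simp only [← ConcreteCategory.comp_apply, ← Functor.map_comp] at this ⊢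
    exact this
  have := congrArg (X.presheaf.germ A x hxA) h0
  rwa [TopCat.Presheaf.germ_res_apply, map_zero] at this

end Groth.Agent.Mero90
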