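import Groth.Agent.Mero90.Dense

/-! Evaluation of meromorphic functions at the generic points of a reduced scheme. -/

universe u

open CategoryTheory AlgebraicGeometry TopologicalSpace Opposite IsLocalRing

namespace Groth.Agent.Mero90

variable {X : Scheme.{u}}

lemma isField_stalk_of_maxPt [IsReduced X] {η : X} (hη : MaxPt η) : IsField (X.presheaf.stalk η) := by
  have hall : ∀ q : PrimeSpectrum (X.presheaf.stalk η), q = closedPoint _ := fun q => by
    have hq := Cyc90.genPrime_fromSpecStalk q
    rw [(Cyc90.genPrime_eq_iff (Cyc90.fromSpecStalk_specializes q) (specializes_refl η)).mpr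
      (hη _ (Cyc90.fromSpecStalk_specializes q)), Cyc90.genPrime_refl] at hq
    exact hq.symm
  rw [IsLocalRing.isField_iff_maximalIdeal_eq, eq_bot_iff]
  intro c hc
  refine IsNilpotent.eq_zero (nilpotent_iff_mem_prime.mpr fun J hJ => ?_)
  rw [show J = (closedPoint (X.presheaf.stalk η)).asIdeal from congrArg PrimeSpectrum.asIdeal (hall ⟨J, hJ⟩)]
  exact hc

lemma algebraMap_bijective_of_maxPt {η : X} (hη : MaxPt η) :
    Function.Bijective (algebraMap (X.presheaf.stalk η) (Mero.KStalk X η)) := by
  refine ⟨Mero.algebraMap_KStalk_injective η, fun q => ?_⟩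
  obtain ⟨c, s, rfl⟩ := IsLocalization.exists_mk'_eq (Mero.regStalk X η) q
  have hu := isUnit_of_maximal hη (Mero.regStalk_le_nonZeroDivisors _ s.2)
  exact RingHom.mem_range.mp (range_eq.mpr hu.dvd)

theorem evalK_generic_bijective [IsReduced X] (hfin : (irreducibleComponents (X : Type u)).Finite) (U : X.Opens) :
    Function.Bijective (fun s : Γ(Mero.kmod X, U) =>
      fun x : {x : U // closure ({x.1} : Set X) ∈ irreducibleComponents (X : Type u)} =>
        Mero.evalK X U x.1 s) := by
  have hloc : ∀ x : X, ∃ W : X.Opens, x ∈ W ∧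
      {Z : Set X | Z ∈ irreducibleComponents X ∧ (Z ∩ (W : Set X)).Nonempty}.Finite :=
    fun x => ⟨⊤, trivial, hfin.subset fun Z hZ => hZ.1⟩
  constructor
  · intro k k' hkk
    rw [← sub_eq_zero]
    refine kext fun z => ?_
    obtain ⟨N, hz, hN, a, b, w⟩ := exists_frac (k - k') z
    have : a = 0 := eq_zero_of_maxPt a fun η hη hmax => by
      have h0 := congrFun hkk ⟨⟨η, hN hη⟩, hmax.closure_mem⟩
      have h1 : (k - k').1 ⟨η, hN hη⟩ = 0 := by
        change Mero.evalK X U ⟨η, hN hη⟩ (k - k') = 0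
        rw [map_sub, sub_eq_zero]
        exact h0
      rw [show (k - k').1 ⟨η, hN hη⟩ = _ from w ⟨η, hη⟩] at h1
      exact mk'_eq_zero h1
    rw [show (k - k').1 z = _ from w ⟨z.1, hz⟩, this, map_zero, IsLocalization.mk'_zero]
    rfl
  · intro t
    let P := {x : U // closure ({x.1} : Set X) ∈ irreducibleComponents (X : Type u)}
    choose c hc using fun η : P => (algebraMap_bijective_of_maxPt (maxPt_of_closure_mem η.2)).2 (t η)
    choose O hO g hg using fun η : P => TopCat.Presheaf.exists_germ_eq X.presheaf (c η)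
    choose W hηW hWle hW using fun η : P => exists_isolated_nbhd hloc (maxPt_of_closure_mem η.2)
      (show η.1.1 ∈ U ⊓ O η from ⟨η.1.2, hO η⟩)
    let V : X.Opens := ⨆ η, W η
    obtain ⟨G, hG, -⟩ := X.sheaf.existsUnique_gluing' W V (fun η => homOfLE (le_iSup W η)) le_rfl
      (fun η => X.presheaf.map (homOfLE ((hWle η).trans inf_le_right)).op (g η)) (fun η η' => by
        by_cases h : η = η'
        · subst h; rfl
        · apply TopCat.Presheaf.section_ext X.sheaf
          intro y hy
          obtain ⟨w, hw, hwy⟩ := exists_maxPt y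
          exact absurd (Subtype.ext (Subtype.ext ((hW η y hy.1 w hw hwy).symm.trans (hW η' y hy.2 w hw hwy)))) h)
    have hd : SchDense U V := schDense_of_maxPt fun η hηU hη =>
      Opens.mem_iSup.2 ⟨⟨⟨η, hηU⟩, hη.closure_mem⟩, hηW _⟩
    obtain ⟨s, hs⟩ := exists_extension (goodAffines_of (Or.inr ⟨inferInstance, hloc⟩)) hd G
    refine ⟨s, funext fun η => ?_⟩
    change s.1 η.1 = t η
    rw [hs η.1 (Opens.mem_iSup.2 ⟨η, hηW η⟩), ← hc η, ← hg η]
    have h1 := congrArg (X.presheaf.germ (W η) η.1.1 (hηW η)) (hG η)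
    change X.presheaf.germ (W η) η.1.1 (hηW η) (X.presheaf.map _ G) =
      X.presheaf.germ (W η) η.1.1 (hηW η) (X.presheaf.map _ (g η)) at h1
    rw [TopCat.Presheaf.germ_res_apply, TopCat.Presheaf.germ_res_apply] at h1
    rw [h1]

end Groth.Agent.Mero90
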