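import Groth.Agent.Mero90.DivMod

/-! Linearly equivalent divisors give isomorphic modules. -/

universe u

open CategoryTheory AlgebraicGeometry TopologicalSpace Opposite

namespace Groth.Agent.Mero90

variable {X : Scheme.{u}}

/-- Multiplication by a global meromorphic function `O(D) → O(D')`. -/
noncomputable def mulDivHom (D D' : Mero.Divisor X) (f : Γ(Mero.kmod X, ⊤))
    (h : ∀ (x : X) (t : Mero.KStalk X x), Mero.DivCond D x t → Mero.DivCond D' x (f.1 ⟨x, trivial⟩ * t)) :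
    Mero.divMod D ⟶ Mero.divMod D' :=
  ⟨PresheafOfModules.homMk (M₁ := (Mero.divMod D).val) (M₂ := (Mero.divMod D').val)
    { app := fun U => AddCommGrpCat.ofHom
        { toFun := fun (t : Γ(Mero.divMod D, U.unop)) =>
            (⟨fun y => f.1 ⟨y.1, trivial⟩ * t.1 y,
              Mero.kLoc_mul X U.unop (fun y => f.1 ⟨y.1, trivial⟩) t.1
                ((Mero.kLoc X).res (homOfLE (le_top : U.unop ≤ ⊤)) f.1 f.2) t.2.1,
              fun y => h y.1 _ (t.2.2 y)⟩ : Γ(Mero.divMod D', U.unop))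
          map_zero' := Subtype.ext (funext fun y => mul_zero _)
          map_add' := fun _ _ => Subtype.ext (funext fun y => mul_add _ _ _) }
      naturality := by intros; rfl }
    (fun _ r t => Subtype.ext (funext fun _ => mul_smul_comm _ _ _))⟩

lemma mulDivHom_app (D D' : Mero.Divisor X) (f : Γ(Mero.kmod X, ⊤)) (h) (U : X.Opens)
    (t : Γ(Mero.divMod D, U)) (y : U) :
    ((mulDivHom D D' f h).app U t).1 y = f.1 ⟨y.1, trivial⟩ * t.1 y := rfl

theorem nonempty_iso_of_linEquiv (D D' : Mero.Divisor X) (h : Mero.LinEquiv D D') :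
    Nonempty (Mero.divMod D ≅ Mero.divMod D') := by
  obtain ⟨f, hf⟩ := h
  have hx : ∀ (x : X) (g : (Mero.KStalk X x)ˣ),
      D'.1 x = QuotientGroup.mk g → D.1 x = QuotientGroup.mk (Units.map (Mero.evalK X ⊤ ⟨x, trivial⟩).toMonoidHom f * g) := by
    intro x g hg
    have := congrArg (fun E : Mero.Divisor X => E.1 x) hf
    change D.1 x * (D'.1 x)⁻¹ = Mero.germOf f ⟨x, trivial⟩ at this
    rw [QuotientGroup.mk_mul, ← hg, ← mul_inv_eq_iff_eq_mul.mp this]
  have h1 : ∀ (x : X) (t : Mero.KStalk X x), Mero.DivCond D x t → Mero.DivCond D' x (f.1.1 ⟨x, trivial⟩ * t) := by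
    intro x t ht g hg
    have := ht _ (hx x g hg)
    rw [Units.val_mul, ← mul_assoc, mul_comm t] at this
    exact this
  have h2 : ∀ (x : X) (t : Mero.KStalk X x), Mero.DivCond D' x t → Mero.DivCond D x (f⁻¹.1.1 ⟨x, trivial⟩ * t) := by
    intro x t ht
    obtain ⟨g, hg⟩ := QuotientGroup.mk_surjective (D'.1 x)
    refine (mk_regUnit_mul_cls D _ _ (hx x g hg.symm)).mpr ?_
    have := ht g hg.symm
    rw [Units.val_mul]
    convert this using 1
    change f⁻¹.1.1 ⟨x, trivial⟩ * t * (f.1.1 ⟨x, trivial⟩ * g) = _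
    rw [mul_mul_mul_comm, ← Mero.kmod_mul_apply, Units.inv_mul, Mero.kmod_one_apply, one_mul]
  have e1 : mulDivHom D D' f.1 h1 ≫ mulDivHom D' D f⁻¹.1 h2 = 𝟙 _ := by
    ext U t
    refine Subtype.ext (funext fun y => ?_)
    change f⁻¹.1.1 ⟨y.1, trivial⟩ * (f.1.1 ⟨y.1, trivial⟩ * t.1 y) = t.1 y
    rw [← mul_assoc, ← Mero.kmod_mul_apply, Units.inv_mul, Mero.kmod_one_apply, one_mul]
  have e2 : mulDivHom D' D f⁻¹.1 h2 ≫ mulDivHom D D' f.1 h1 = 𝟙 _ := by
    ext U t
    refine Subtype.ext (funext fun y => ?_)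
    change f.1.1 ⟨y.1, trivial⟩ * (f⁻¹.1.1 ⟨y.1, trivial⟩ * t.1 y) = t.1 y
    rw [← mul_assoc, ← Mero.kmod_mul_apply, Units.mul_inv, Mero.kmod_one_apply, one_mul]
  exact ⟨⟨mulDivHom D D' f.1 h1, mulDivHom D' D f⁻¹.1 h2, e1, e2⟩⟩

end Groth.Agent.Mero90
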