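import Groth.Agent.Mero90.Basic
import Groth.Agent.Cyc90.Gen
import Mathlib.AlgebraicGeometry.Noetherian
import Mathlib.RingTheory.Ideal.AssociatedPrime.Localization
import Mathlib.RingTheory.Ideal.MinimalPrime.Basic
import Mathlib.RingTheory.Ideal.MinimalPrime.Localization

/-! Regular sections on affines; pullback of regular sections. -/

universe u

open CategoryTheory AlgebraicGeometry TopologicalSpace Opposite IsLocalRing

namespace Groth.Agent.Mero90

variable {X : Scheme.{u}}

/-- On an affine open the regular sections are the nonzerodivisors. -/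
lemma regSub_eq_nonZeroDivisors {U : X.Opens} (hU : IsAffineOpen U) :
    Mero.regSub X U = nonZeroDivisors Γ(X, U) := by
  ext f
  constructor
  · intro hf
    rw [mem_nonZeroDivisors_iff_right]
    intro g hg
    apply TopCat.Presheaf.section_ext X.sheaf U
    intro x hx
    change X.presheaf.germ U x hx g = X.presheaf.germ U x hx 0
    rw [map_zero]
    refine (mem_nonZeroDivisors_iff_right.mp (hf ⟨x, hx⟩)) _ ?_
    change X.presheaf.germ U x hx g * X.presheaf.germ U x hx f = 0
    rw [← map_mul, hg, map_zero]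
  · intro hf x
    have := hU.isLocalization_stalk x
    exact IsLocalization.map_nonZeroDivisors_le (hU.primeIdealOf x).asIdeal.primeCompl _
      ⟨f, hf, rfl⟩

/-- `f/1 = 0` in `K_{X,x}` only for `f = 0`. -/
lemma mk'_eq_zero {x : X} {a : X.presheaf.stalk x} {b : Mero.regStalk X x}
    (h : IsLocalization.mk' (Mero.KStalk X x) a b = 0) : a = 0 := by
  obtain ⟨c, hc⟩ := (IsLocalization.mk'_eq_zero_iff _ _).mp h
  exact mem_nonZeroDivisors_iff_right.mp (Mero.regStalk_le_nonZeroDivisors _ c.2) _
    (by rw [mul_comm]; exact hc)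

/-- A germ is a nonzerodivisor as soon as it is a unit at every associated point generizing it. -/
lemma mem_nonZeroDivisors_of_assoc [IsLocallyNoetherian X] {x : X} (g : X.presheaf.stalk x)
    (h : ∀ z (hz : z ⤳ x), IsAssociatedPrime (maximalIdeal (X.presheaf.stalk z)) (X.presheaf.stalk z) →
      IsUnit (X.presheaf.stalkSpecializes hz g)) : g ∈ nonZeroDivisors (X.presheaf.stalk x) := by
  by_contra hg
  have hmem : g ∈ ⋃ p ∈ associatedPrimes (X.presheaf.stalk x) (X.presheaf.stalk x),
      (p : Set (X.presheaf.stalk x)) := by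
    rw [biUnion_associatedPrimes_eq_compl_nonZeroDivisors]
    exact hg
  obtain ⟨p, hp, hgp⟩ := Set.mem_iUnion₂.mp hmem
  let q : PrimeSpectrum (X.presheaf.stalk x) := ⟨p, hp.isPrime⟩
  have hz := Cyc90.fromSpecStalk_specializes q
  have hq : (Cyc90.genPrime hz).asIdeal = p :=
    congrArg PrimeSpectrum.asIdeal (Cyc90.genPrime_fromSpecStalk q)
  let alg := (X.presheaf.stalkSpecializes hz).hom.toAlgebra
  have hloc := Cyc90.isLocalization_genPrime hz
  have hass : IsAssociatedPrime (maximalIdeal (X.presheaf.stalk ((X.fromSpecStalk x).base q)))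
      (X.presheaf.stalk ((X.fromSpecStalk x).base q)) := by
    refine Module.associatedPrimes.mem_associatedPrimes_of_comap_mem_associatedPrimes_of_isLocalizedModule
      (Cyc90.genPrime hz).asIdeal.primeCompl
      (Algebra.linearMap (X.presheaf.stalk x) _) _ ?_
    rw [show (maximalIdeal (X.presheaf.stalk ((X.fromSpecStalk x).base q))).comap
      (algebraMap (X.presheaf.stalk x) _) = p from hq]
    exact hp
  have hu := h _ hz hass
  rw [← hq] at hgp
  exact hgp hu

/-- In a reduced scheme a germ is a nonzerodivisor as soon as it is a unit at every maximal point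
generizing it. -/
lemma mem_nonZeroDivisors_of_maximal [IsReduced X] {x : X} (g : X.presheaf.stalk x)
    (h : ∀ z (hz : z ⤳ x), (∀ w, w ⤳ z → w = z) → IsUnit (X.presheaf.stalkSpecializes hz g)) :
    g ∈ nonZeroDivisors (X.presheaf.stalk x) := by
  by_contra hg
  rw [mem_nonZeroDivisors_iff_right] at hg
  push Not at hg
  obtain ⟨c, hc, hc0⟩ := hg
  have : c ∈ sInf (minimalPrimes (X.presheaf.stalk x)) := by
    rw [Ideal.mem_sInf]
    intro p hp
    refine (hp.1.1.mem_or_mem (hc ▸ p.zero_mem : c * g ∈ p)).resolve_right fun hgp => ?_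
    let q : PrimeSpectrum (X.presheaf.stalk x) := ⟨p, hp.1.1⟩
    have hz := Cyc90.fromSpecStalk_specializes q
    have hq := Cyc90.genPrime_fromSpecStalk q
    have hu := h _ hz fun w hw => by
      have hwx := hw.trans hz
      have hle := (Cyc90.genPrime_le_iff hwx hz).mpr hw
      rw [hq] at hle
      exact (Cyc90.genPrime_eq_iff hwx hz).mp
        (PrimeSpectrum.ext ((hle.antisymm (hp.2 ⟨(Cyc90.genPrime hwx).isPrime, bot_le⟩ hle)).trans
          (congrArg PrimeSpectrum.asIdeal hq).symm))
    have : g ∈ (Cyc90.genPrime hz).asIdeal := by rw [hq]; exact hgp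
    exact this hu
  have hmin : sInf (minimalPrimes (X.presheaf.stalk x)) = ⊥ :=
    Ideal.sInf_minimalPrimes.trans (nilradical_eq_bot_iff.mpr inferInstance)
  rw [hmin] at this
  exact hc0 this

/-- A nonzerodivisor is a unit when the maximal ideal consists of zero divisors. -/
lemma isUnit_of_isAssociatedPrime {R : Type*} [CommRing R] [IsLocalRing R] [IsNoetherianRing R]
    (h : IsAssociatedPrime (maximalIdeal R) R) {g : R} (hg : g ∈ nonZeroDivisors R) : IsUnit g := by
  by_contra hu
  have : g ∈ (nonZeroDivisors R : Set R)ᶜ := by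
    rw [← biUnion_associatedPrimes_eq_compl_nonZeroDivisors]
    exact Set.mem_biUnion h hu
  exact this hg

/-- At a maximal point a nonzerodivisor is a unit. -/
lemma isUnit_of_maximal {z : X} (hz : ∀ w, w ⤳ z → w = z) {g : X.presheaf.stalk z}
    (hg : g ∈ nonZeroDivisors (X.presheaf.stalk z)) : IsUnit g := by
  by_contra hu
  have hall : ∀ q : PrimeSpectrum (X.presheaf.stalk z), q = closedPoint _ := fun q => by
    have hq := Cyc90.genPrime_fromSpecStalk q
    rw [(Cyc90.genPrime_eq_iff (Cyc90.fromSpecStalk_specializes q) (specializes_refl z)).mpr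
      (hz _ (Cyc90.fromSpecStalk_specializes q)), Cyc90.genPrime_refl] at hq
    exact hq.symm
  obtain ⟨n, hn⟩ : IsNilpotent g := nilpotent_iff_mem_prime.mpr fun J hJ => by
    rw [show J = (closedPoint (X.presheaf.stalk z)).asIdeal from
      congrArg PrimeSpectrum.asIdeal (hall ⟨J, hJ⟩)]
    exact hu
  have h1 : (0 : X.presheaf.stalk z) ∈ nonZeroDivisors _ := hn ▸ pow_mem hg n
  exact zero_notMem_nonZeroDivisors h1

lemma germ_stalkSpecializes {U : X.Opens} {x z : X} (hz : z ⤳ x) (hx : x ∈ U) (s : Γ(X, U)) :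
    X.presheaf.stalkSpecializes hz (X.presheaf.germ U x hx s) =
      X.presheaf.germ U z (hz.mem_open U.isOpen hx) s :=
  TopCat.Presheaf.germ_stalkSpecializes_apply X.presheaf hx hz s

lemma isUnit_germ_app {Y : Scheme.{u}} (f : X ⟶ Y) {U : Y.Opens} (z : X) (hz : f z ∈ U)
    (s : Γ(Y, U)) (h : IsUnit (Y.presheaf.germ U (f z) hz s)) :
    IsUnit (X.presheaf.germ (f ⁻¹ᵁ U) z hz (f.app U s)) := by
  rw [← Scheme.Hom.germ_stalkMap_apply f U z hz s]
  exact h.map _

end Groth.Agent.Mero90
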